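import Groth.Agent.TF64.Basic
import Groth.Agent.Crv77.DivLe
import Groth.Agent.Crv77.TwistSection

/-!
Euler characteristics of sheaves on a proper reduced curve compared at the generic points.
-/

set_option autoImplicit false
universe u

open CategoryTheory CategoryTheory.Limits AlgebraicGeometry TopologicalSpace
open Groth.Agent.QC70 (stalkMapM germM)

namespace Groth.Agent.TF64

variable {k : Type u} [Field k] {X : Scheme.{u}} [X.Over (Spec (CommRingCat.of k))]
  [IsProper (X ↘ Spec (CommRingCat.of k))] (hdim : topologicalKrullDim X ≤ 1)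
include hdim

/-- A coherent sheaf which vanishes at the generic points has nonnegative Euler characteristic. -/
theorem euler_nonneg {Q : X.Modules} (hQ : Coh.IsCoh Q)
    (h : ∀ η ∈ genericPoints X, Subsingleton (Q.presheaf.stalk η)) : 0 ≤ Curv2.euler k X Q := by
  have := Crv77.isNoetherian_of_proper k X
  have := hQ.2
  have hgen : ∀ z ∈ CohB1.support Q, ∃ ζ, ζ ⤳ z ∧ z ≠ ζ := fun z hz => by
    obtain ⟨η, hη, hs⟩ := exists_generic z
    exact ⟨η, hs, fun e => subsingleton_stalk_iff.1 (h η hη) (e ▸ hz)⟩
  have hfin := Crv77.finite_of_isClosed hdim (QC70.isClosed_support Q) hgen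
  rw [(Crv77.curveCoh_of_proper k X hdim).euler_eq_of_suppIn hQ
    (fun x hx => subsingleton_stalk_iff.2 hx) hfin fun x hx => by
      obtain ⟨ζ, hs, hne⟩ := hgen x hx
      exact Crv77.isClosed_singleton_of_generalization hdim hs hne]
  exact Int.natCast_nonneg _

theorem euler_add {S : ShortComplex X.Modules} (hS : S.ShortExact) (h₁ : Coh.IsCoh S.X₁)
    (h₂ : Coh.IsCoh S.X₂) :
    Curv2.euler k X S.X₂ = Curv2.euler k X S.X₁ + Curv2.euler k X S.X₃ :=
  (Crv77.curveCoh_of_proper k X hdim).euler_add hS h₁ h₂

theorem euler_eq_kernel_add {A B : X.Modules} (g : A ⟶ B) [Epi g] (hA : Coh.IsCoh A) (hB : Coh.IsQCoh B) :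
    Curv2.euler k X A = Curv2.euler k X (kernel g) + Curv2.euler k X B :=
  have := Crv77.isNoetherian_of_proper k X
  euler_add hdim (S := ShortComplex.mk _ g (kernel.condition g))
    { exact := ShortComplex.exact_of_f_is_kernel _ (kernelIsKernel g) } (QC70.isCoh_kernel g hA hB) hA

theorem euler_eq_add_cokernel {A B : X.Modules} (f : A ⟶ B) [Mono f] (hA : Coh.IsCoh A) (hB : Coh.IsCoh B) :
    Curv2.euler k X B = Curv2.euler k X A + Curv2.euler k X (cokernel f) :=
  euler_add hdim (S := ShortComplex.mk f _ (cokernel.condition f))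
    { exact := ShortComplex.exact_of_g_is_cokernel _ (cokernelIsCokernel f) } hA hB

/-- A subsheaf which is everything at the generic points has the smaller Euler characteristic. -/
theorem euler_le_of_mono {A B : X.Modules} (f : A ⟶ B) [Mono f] (hA : Coh.IsCoh A) (hB : Coh.IsCoh B)
    (h : ∀ η ∈ genericPoints X, Function.Surjective (stalkMapM f η)) :
    Curv2.euler k X A ≤ Curv2.euler k X B := by
  rw [euler_eq_add_cokernel hdim f hA hB]
  exact le_add_of_nonneg_right (euler_nonneg hdim (QC70.isCoh_cokernel f hA.1 hB)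
    fun η hη => QC70.subsingleton_stalk_cokernel f η (h η hη))

end Groth.Agent.TF64
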