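import Groth.Agent.Ega11.TorFreeAss
import Groth.Agent.QC70.CohOps
import Groth.Agent.Mero90.GenEval
import Groth.Agent.QC70.Stalk
import Groth.Agent.Formal27.SmulMod
import Groth.Prelude.Def_TFOne

/-!
Torsion-free sheaves on reduced Noetherian schemes are controlled by their stalks at the generic points;
the torsion-free quotient on a subcurve.
-/

set_option autoImplicit false
universe u

open CategoryTheory CategoryTheory.Limits AlgebraicGeometry TopologicalSpace
open Groth.Agent.QC70 (stalkMapM germM)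

namespace Groth.Agent.TF64

variable {X : Scheme.{u}}

/-- The map on stalks vanishes. -/
def ZeroAt {F G : X.Modules} (φ : F ⟶ G) (x : X) : Prop := ∀ e, stalkMapM φ x e = 0

lemma stalkMapM_comp {F G H : X.Modules} (φ : F ⟶ G) (ψ : G ⟶ H) (x : X) (e : F.presheaf.stalk x) :
    stalkMapM (φ ≫ ψ) x e = stalkMapM ψ x (stalkMapM φ x e) := by
  obtain ⟨W, hW, s, rfl⟩ := QC70.germM_exist e
  simp only [QC70.stalkMapM_germ]
  rfl

lemma stalkMapM_id (F : X.Modules) (x : X) (e : F.presheaf.stalk x) : stalkMapM (𝟙 F) x e = e := by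
  obtain ⟨W, hW, s, rfl⟩ := QC70.germM_exist e
  simp only [QC70.stalkMapM_germ]
  rfl

lemma stalkMapM_zero {F G : X.Modules} (x : X) (e : F.presheaf.stalk x) :
    stalkMapM (0 : F ⟶ G) x e = 0 := by
  obtain ⟨W, hW, s, rfl⟩ := QC70.germM_exist e
  simp only [QC70.stalkMapM_germ]
  exact QC70.germM_zero hW

lemma map0 {F G : X.Modules} (φ : F ⟶ G) (x : X) : stalkMapM φ x 0 = 0 :=
  map_zero ((TopCat.Presheaf.stalkFunctor _ x).map φ.mapPresheaf).hom

lemma stalkMapM_add {F G : X.Modules} (φ ψ : F ⟶ G) (x : X) (e : F.presheaf.stalk x) :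
    stalkMapM (φ + ψ) x e = stalkMapM φ x e + stalkMapM ψ x e := by
  obtain ⟨W, hW, s, rfl⟩ := QC70.germM_exist e
  simp only [QC70.stalkMapM_germ]
  exact QC70.germM_add hW _ _

lemma stalkMapM_sub {F G : X.Modules} (φ ψ : F ⟶ G) (x : X) (e : F.presheaf.stalk x) :
    stalkMapM (φ - ψ) x e = stalkMapM φ x e - stalkMapM ψ x e := by
  have h := stalkMapM_add (φ - ψ) ψ x e
  rw [sub_add_cancel] at h
  rw [h, add_sub_cancel_right]

lemma isField_mem_genericPoints {x : X} [IsLocallyNoetherian X] (h : IsField (X.presheaf.stalk x)) :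
    x ∈ genericPoints X :=
  (Ega11.TorFreeAss.maxPt_of_isField h).closure_mem

lemma isField_stalk [AlgebraicGeometry.IsReduced X] {x : X} (h : x ∈ genericPoints X) :
    IsField (X.presheaf.stalk x) :=
  Mero90.isField_stalk_of_maxPt (Mero90.maxPt_of_closure_mem h)

lemma eq_of_specializes_generic {η w : X} (hη : η ∈ genericPoints X) (h : w ⤳ η) : w = η :=
  Mero90.maxPt_of_closure_mem hη w h

lemma exists_generic (y : X) : ∃ η ∈ genericPoints X, η ⤳ y := by
  obtain ⟨η, h1, h2⟩ := Mero90.exists_maxPt y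
  exact ⟨η, h1.closure_mem, h2⟩

/-- A generic point lying in a union of irreducible components is the generic point of one of them. -/
lemma closure_subset_of_mem {Z : Set X} (hZ : IsClosed Z) {η : X} (h : η ∈ Z) :
    closure ({η} : Set X) ⊆ Z :=
  hZ.closure_subset_iff.2 (Set.singleton_subset_iff.2 h)

lemma exists_generic_of_component {C : Set X} (hC : C ∈ irreducibleComponents (X : Type u)) :
    ∃ η ∈ genericPoints X, closure ({η} : Set X) = C :=
  ⟨(genericPoints.ofComponent ⟨C, hC⟩).1, (genericPoints.ofComponent ⟨C, hC⟩).2,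
    genericPoints.isGenericPoint_ofComponent ⟨C, hC⟩⟩

/-- An irreducible component through a generic point is its closure. -/
lemma closure_eq_of_mem_component {C : Set X} (hC : C ∈ irreducibleComponents (X : Type u)) {η : X}
    (hη : η ∈ genericPoints X) (h : η ∈ C) : closure ({η} : Set X) = C := by
  have hle := closure_subset_of_mem (isClosed_of_mem_irreducibleComponents C hC) h
  exact hle.antisymm (hη.2 hC.1 hle)

lemma exists_generic_mem_subcurve {Z : Set X} (hZ : VecSt.IsSubcurve X Z) :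
    ∃ η ∈ genericPoints X, η ∈ Z := by
  obtain ⟨S, hS, ⟨C, hC⟩, rfl⟩ := hZ
  obtain ⟨η, hη, he⟩ := exists_generic_of_component (hS hC)
  exact ⟨η, hη, Set.mem_sUnion.2 ⟨C, hC, he ▸ subset_closure rfl⟩⟩

lemma subset_of_generic {Y Z : Set X} (hY : VecSt.IsSubcurve X Y) (hZ : IsClosed Z)
    (h : ∀ η ∈ genericPoints X, η ∈ Y → η ∈ Z) : Y ⊆ Z := by
  obtain ⟨S, hS, -, rfl⟩ := hY
  refine Set.sUnion_subset fun C hC => ?_
  obtain ⟨η, hη, he⟩ := exists_generic_of_component (hS hC)
  rw [← he]
  exact closure_subset_of_mem hZ (h η hη (Set.mem_sUnion.2 ⟨C, hC, he ▸ subset_closure rfl⟩))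

lemma subsingleton_stalk_iff {F : X.Modules} {x : X} :
    Subsingleton (F.presheaf.stalk x) ↔ x ∉ CohB1.support F :=
  not_not.symm

section Detect

variable [IsLocallyNoetherian X] [AlgebraicGeometry.IsReduced X]

/-- A morphism into a torsion-free module vanishes when it vanishes at the generic points. -/
theorem eq_zero_of_zeroAt {F G : X.Modules} (hG : Coh.IsQCoh G) (htG : TorSh.IsTorsionFree G)
    (φ : F ⟶ G) (h : ∀ η ∈ genericPoints X, ZeroAt φ η) : φ = 0 := by
  ext V m
  refine (Ega11.TorFreeAss.eq_zero_of_germ G hG htG (φ.app V m) fun x hx hf => ?_).trans rfl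
  exact (QC70.stalkMapM_germ φ hx m).symm.trans (h x (isField_mem_genericPoints hf) _)

/-- A morphism out of a torsion-free module is mono when injective at the generic points. -/
theorem mono_of_injective_generic {F G : X.Modules} (hF : Coh.IsQCoh F) (htF : TorSh.IsTorsionFree F)
    (φ : F ⟶ G) (h : ∀ η ∈ genericPoints X, Function.Injective (stalkMapM φ η)) : Mono φ :=
  Preadditive.mono_of_cancel_zero φ fun {P} g hg =>
    eq_zero_of_zeroAt hF htF g fun η hη e => h η hη (by
      rw [← stalkMapM_comp, hg, stalkMapM_zero, map0])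

end Detect

section RankOne

variable [AlgebraicGeometry.IsReduced X] {M : X.Modules} (hM : TFOne.IsRkOne X M)
include hM

lemma nontrivial_stalk {η : X} (hη : η ∈ genericPoints X) : Nontrivial (M.presheaf.stalk η) := by
  obtain ⟨e⟩ := hM η hη
  exact e.symm.injective.nontrivial

/-- A map out of a rank one module is injective or zero at each generic point. -/
lemma injective_or_zeroAt {G : X.Modules} (φ : M ⟶ G) {η : X} (hη : η ∈ genericPoints X) :
    Function.Injective (stalkMapM φ η) ∨ ZeroAt φ η := by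
  obtain ⟨e⟩ := hM η hη
  letI := (isField_stalk hη).toField
  let f : X.presheaf.stalk η →ₗ[X.presheaf.stalk η] G.presheaf.stalk η :=
    (QC70.stalkLinear φ η).comp e.symm.toLinearMap
  by_cases h1 : f 1 = 0
  · refine Or.inr fun m => ?_
    have h2 : f (e m) = e m • f 1 := by rw [← map_smul, smul_eq_mul, mul_one]
    rw [h1, smul_zero] at h2
    have h3 : f (e m) = stalkMapM φ η m := congrArg (stalkMapM φ η) (e.symm_apply_apply m)
    rw [← h3, h2]
  · refine Or.inl fun a b hab => e.injective ?_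
    have h2 : (e a - e b) • f 1 = 0 := by
      rw [← map_smul, smul_eq_mul, mul_one, map_sub]
      exact sub_eq_zero.2 ((congrArg (stalkMapM φ η) (e.symm_apply_apply a)).trans
        (hab.trans (congrArg (stalkMapM φ η) (e.symm_apply_apply b)).symm))
    rcases eq_or_ne (e a - e b) 0 with h0 | h0
    · exact sub_eq_zero.1 h0
    · exact absurd (by rw [← inv_smul_smul₀ h0 (f 1), h2, smul_zero]) h1

end RankOne

section Quot

variable {M G : X.Modules} {Z : Set X} {π : M ⟶ G} (hπ : TFOne.IsQuotOn X M Z G π)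
include hπ

lemma quot_surjective (x : X) : Function.Surjective (stalkMapM π x) :=
  haveI := hπ.1
  QC70.surjective_stalkMapM_of_epi π x

lemma quot_subsingleton {x : X} (hx : x ∉ Z) : Subsingleton (G.presheaf.stalk x) :=
  subsingleton_stalk_iff.2 (hπ.2.2.2.symm ▸ hx)

lemma quot_zeroAt {x : X} (hx : x ∉ Z) : ZeroAt π x := fun _ =>
  haveI := quot_subsingleton hπ hx
  Subsingleton.elim _ _

lemma quot_nontrivial {x : X} (hx : x ∈ Z) : Nontrivial (G.presheaf.stalk x) :=
  not_subsingleton_iff_nontrivial.1 fun h => subsingleton_stalk_iff.1 h (hπ.2.2.2.symm ▸ hx)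

lemma quot_bijective [AlgebraicGeometry.IsReduced X] (hM : TFOne.IsRkOne X M) {η : X}
    (hη : η ∈ genericPoints X) (hZ : η ∈ Z) : Function.Bijective (stalkMapM π η) := by
  refine ⟨(injective_or_zeroAt hM π hη).resolve_right fun h => ?_, quot_surjective hπ η⟩
  have := quot_nontrivial hπ hZ
  obtain ⟨y, hy⟩ := exists_ne (0 : G.presheaf.stalk η)
  obtain ⟨m, rfl⟩ := quot_surjective hπ η y
  exact hy (h m)

/-- A map to a torsion-free module which vanishes at the generic points outside `Z` factors through the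
torsion-free quotient on `Z`. -/
theorem exists_desc [IsLocallyNoetherian X] [AlgebraicGeometry.IsReduced X] (hM : TFOne.IsRkOne X M)
    {H : X.Modules} (hH : Coh.IsQCoh H) (htH : TorSh.IsTorsionFree H) (f : M ⟶ H)
    (hf : ∀ η ∈ genericPoints X, η ∉ Z → ZeroAt f η) : ∃ g : G ⟶ H, π ≫ g = f := by
  have := hπ.1
  have h0 : kernel.ι π ≫ f = 0 := eq_zero_of_zeroAt hH htH _ fun η hη e => by
    rw [stalkMapM_comp]
    by_cases hZ : η ∈ Z
    · have h1 : stalkMapM (kernel.ι π) η e = 0 := (quot_bijective hπ hM hη hZ).1 (by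
        rw [← stalkMapM_comp, kernel.condition, stalkMapM_zero, map0])
      rw [h1, map0]
    · exact hf η hη hZ _
  exact ⟨Abelian.epiDesc π f h0, Abelian.comp_epiDesc π f h0⟩

/-- Endomorphisms descend to the torsion-free quotient. -/
theorem exists_desc_end [IsLocallyNoetherian X] [AlgebraicGeometry.IsReduced X] (hM : TFOne.IsRkOne X M)
    (φ : M ⟶ M) : ∃ g : G ⟶ G, π ≫ g = φ ≫ π :=
  exists_desc hπ hM hπ.2.1.1 hπ.2.2.1 _ fun η _ hZ e => by
    rw [stalkMapM_comp]
    exact quot_zeroAt hπ hZ _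

/-- The canonical map between torsion-free quotients. -/
theorem exists_restrict [IsLocallyNoetherian X] [AlgebraicGeometry.IsReduced X] (hM : TFOne.IsRkOne X M)
    {W : Set X} {H : X.Modules} {ρ : M ⟶ H} (hρ : TFOne.IsQuotOn X M W H ρ) (hWZ : W ⊆ Z) :
    ∃ g : G ⟶ H, π ≫ g = ρ :=
  exists_desc hπ hM hρ.2.1.1 hρ.2.2.1 ρ fun _ _ hZ => quot_zeroAt hρ fun h => hZ (hWZ h)

lemma quot_comp_injective [AlgebraicGeometry.IsReduced X] (hM : TFOne.IsRkOne X M)
    {W : Set X} {H : X.Modules} {ρ : M ⟶ H} (hρ : TFOne.IsQuotOn X M W H ρ) {g : G ⟶ H}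
    (hg : π ≫ g = ρ) {η : X} (hη : η ∈ genericPoints X) (hW : η ∈ W) :
    Function.Injective (stalkMapM g η) := by
  intro a b hab
  obtain ⟨a, rfl⟩ := quot_surjective hπ η a
  obtain ⟨b, rfl⟩ := quot_surjective hπ η b
  rw [← stalkMapM_comp, ← stalkMapM_comp, hg] at hab
  rw [(quot_bijective hρ hM hη hW).1 hab]

lemma quot_not_isZero (hZ : Z.Nonempty) : ¬ IsZero G := fun h => by
  obtain ⟨x, hx⟩ := hZ
  have := quot_nontrivial hπ hx
  obtain ⟨y, hy⟩ := exists_ne (0 : G.presheaf.stalk x)
  exact hy ((stalkMapM_id G x y).symm.trans ((congrArg (fun f : G ⟶ G => stalkMapM f x y)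
    (h.eq_of_src (𝟙 G) 0)).trans (stalkMapM_zero x y)))

end Quot

section Scalars

variable (k : Type u) [Field k] [X.Over (Spec (CommRingCat.of k))]

lemma smulMod_sub (M : X.Modules) (a b : k) :
    Formal.smulMod k M (a - b) = Formal.smulMod k M a - Formal.smulMod k M b :=
  eq_sub_of_add_eq (by rw [← Formal27.smulMod_add, sub_add_cancel])

/-- A nonzero scalar is zero at no point of the support. -/
lemma eq_zero_of_zeroAt_smulMod {M : X.Modules} {x : X} [Nontrivial (M.presheaf.stalk x)] (a : k)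
    (h : ZeroAt (Formal.smulMod k M a) x) : a = 0 := by
  by_contra ha
  obtain ⟨y, hy⟩ := exists_ne (0 : M.presheaf.stalk x)
  apply hy
  have h1 : stalkMapM (Formal.smulMod k M a ≫ Formal.smulMod k M a⁻¹) x y = 0 := by
    rw [stalkMapM_comp, h y, map0]
  rw [← Formal27.smulMod_mul, inv_mul_cancel₀ ha, Formal27.smulMod_one, stalkMapM_id] at h1
  exact h1

end Scalars

end Groth.Agent.TF64
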