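import Groth.Agent.TF64.Scalar

/-!
Splitting a torsion-free sheaf by an idempotent at the generic points.
-/

set_option autoImplicit false
universe u

open CategoryTheory CategoryTheory.Limits AlgebraicGeometry TopologicalSpace
open Groth.Agent.QC70 (stalkMapM germM)

namespace Groth.Agent.TF64

variable {X : Scheme.{u}}

theorem zeroAt_of_open [IsLocallyNoetherian X] [AlgebraicGeometry.IsReduced X] {F G : X.Modules}
    (hG : Coh.IsQCoh G) (htG : TorSh.IsTorsionFree G) (φ : F ⟶ G) (W : X.Opens)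
    (h : ∀ η ∈ genericPoints X, η ∈ W → ZeroAt φ η) {x : X} (hx : x ∈ W) : ZeroAt φ x := fun e => by
  obtain ⟨W', hxW', s, rfl⟩ := QC70.germM_exist e
  have hx' : x ∈ W' ⊓ W := ⟨hxW', hx⟩
  rw [← QC70.germM_res (inf_le_left : W' ⊓ W ≤ W') hx' s, QC70.stalkMapM_germ]
  have h0 : φ.app (W' ⊓ W) (QC70.res F inf_le_left s) = 0 :=
    Ega11.TorFreeAss.eq_zero_of_germ G hG htG _ fun z hz hf =>
      (QC70.stalkMapM_germ φ hz _).symm.trans (h z (isField_mem_genericPoints hf) hz.2 _)
  rw [h0]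
  exact QC70.germM_zero hx'

theorem isTorsionFree_of_mono {F G : X.Modules} (ι : F ⟶ G) [Mono ι] (hG : TorSh.IsTorsionFree G) :
    TorSh.IsTorsionFree F := fun x =>
  haveI := hG x
  { isSMulRegular := fun r hr m₁ m₂ hm => QC70.injective_stalkMapM_of_mono ι x <|
      hr.isSMulRegular (M := G.presheaf.stalk x) <|
        ((map_smul (QC70.stalkLinear ι x) r m₁).symm.trans (congrArg (QC70.stalkLinear ι x) hm)).trans
          (map_smul (QC70.stalkLinear ι x) r m₂) }

variable [IsNoetherian X] [AlgebraicGeometry.IsReduced X] {M : X.Modules} (hMc : Coh.IsCoh M)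
  (htM : TorSh.IsTorsionFree M) (hMr : TFOne.IsRkOne X M)
include hMc htM hMr

/-- An endomorphism which is one or zero at each generic point cuts out the torsion-free quotient. -/
theorem exists_quot_of_idem (e : M ⟶ M) (S : Set X) (hS : S ⊆ genericPoints X) (hSne : S.Nonempty)
    (h1 : ∀ η ∈ S, ZeroAt (e - 𝟙 M) η) (h0 : ∀ η ∈ genericPoints X, η ∉ S → ZeroAt e η) :
    ∃ (Y : Set X) (_ : IsClosed Y) (G : X.Modules) (π : M ⟶ G) (ι : G ⟶ M),
      VecSt.IsSubcurve X Y ∧ (∀ η ∈ genericPoints X, η ∈ Y ↔ η ∈ S) ∧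
      TFOne.IsQuotOn X M Y G π ∧ π ≫ ι = e ∧ Mono ι := by
  have hfin : S.Finite := (Set.Finite.of_finite_image
    ((NoetherianSpace.finite_irreducibleComponents (α := X)).subset
      (by rintro C ⟨η, hη, rfl⟩; exact hη : (fun η : X => closure ({η} : Set X)) '' genericPoints X ⊆ _))
    fun a ha b hb hab => (eq_of_specializes_generic ha
      (specializes_iff_mem_closure.2 (hab.le (subset_closure rfl)))).symm).subset hS
  let Y : Set X := ⋃ η ∈ S, closure ({η} : Set X)
  have hY : IsClosed Y := hfin.isClosed_biUnion fun _ _ => isClosed_closure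
  have hmem : ∀ η ∈ genericPoints X, η ∈ Y ↔ η ∈ S := fun η hη => by
    refine ⟨fun h => ?_, fun h => Set.mem_biUnion h (subset_closure rfl)⟩
    obtain ⟨η', hη', h⟩ := Set.mem_iUnion₂.1 h
    exact eq_of_specializes_generic hη (specializes_iff_mem_closure.2 h) ▸ hη'
  refine ⟨Y, hY, Abelian.image e, Abelian.factorThruImage e, Abelian.image.ι e,
    ⟨(fun η : X => closure ({η} : Set X)) '' S, by rintro C ⟨η, hη, rfl⟩; exact hS hη, hSne.image _,
      (Set.sUnion_image _ S).symm⟩, hmem, ⟨inferInstance, ?_, ?_, ?_⟩, Abelian.image.fac e,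
    inferInstance⟩
  · exact QC70.isCoh_kernel _ hMc (QC70.isCoh_cokernel e hMc.1 hMc).1
  · exact isTorsionFree_of_mono (Abelian.image.ι e) htM
  · have hGc : Coh.IsCoh (Abelian.image e) := QC70.isCoh_kernel _ hMc (QC70.isCoh_cokernel e hMc.1 hMc).1
    have := hGc.2
    refine Set.Subset.antisymm (fun x hx => by_contra fun hxY => hx ?_) ?_
    · have hz : ZeroAt e x := zeroAt_of_open hMc.1 htM e ⟨Yᶜ, hY.isOpen_compl⟩
        (fun η hη h => h0 η hη fun h' => h ((hmem η hη).2 h')) hxY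
      refine subsingleton_of_forall_eq 0 fun y => ?_
      obtain ⟨m, rfl⟩ := QC70.surjective_stalkMapM_of_epi (Abelian.factorThruImage e) x y
      refine QC70.injective_stalkMapM_of_mono (Abelian.image.ι e) x ?_
      rw [map0, ← stalkMapM_comp, Abelian.image.fac, hz m]
    · refine Set.iUnion₂_subset fun η hη => (QC70.isClosed_support (Abelian.image e)).closure_subset_iff.2
        (Set.singleton_subset_iff.2 fun hsub => ?_)
      have := nontrivial_stalk hMr (hS hη)
      obtain ⟨m, hm⟩ := exists_ne (0 : M.presheaf.stalk η)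
      apply hm
      have h := h1 η hη m
      rw [stalkMapM_sub, stalkMapM_id, ← Abelian.image.fac e, stalkMapM_comp,
        Subsingleton.elim (stalkMapM (Abelian.factorThruImage e) η m) 0, map0, zero_sub, neg_eq_zero] at h
      exact h

variable {k : Type u} [Field k] [X.Over (Spec (CommRingCat.of k))]

/-- A sheaf with a nonscalar endomorphism which is scalar at each generic point decomposes. -/
theorem exists_decomposition (φ : M ⟶ M)
    (c : X → k) (hc : ∀ η ∈ genericPoints X, ZeroAt (φ - Formal.smulMod k M (c η)) η)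
    (hns : ∀ a : k, φ ≠ Formal.smulMod k M a) [Nonempty X] :
    ∃ (Y Z : Set X) (_ : IsClosed Y) (_ : IsClosed Z) (GY GZ : X.Modules) (πY : M ⟶ GY) (πZ : M ⟶ GZ),
      VecSt.IsSubcurve X Y ∧ VecSt.IsSubcurve X Z ∧ Y ≠ Set.univ ∧ Z ≠ Set.univ ∧
        TFOne.IsQuotOn X M Y GY πY ∧ TFOne.IsQuotOn X M Z GZ πZ ∧ IsIso (biprod.lift πY πZ) := by
  classical
  obtain ⟨η₀, hη₀, -⟩ := exists_generic (Classical.arbitrary X)
  let S : Set X := {η | η ∈ genericPoints X ∧ c η = c η₀}
  let T : Set X := {η | η ∈ genericPoints X ∧ c η ≠ c η₀}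
  obtain ⟨η₁, hη₁⟩ : T.Nonempty := by
    by_contra h
    refine hns (c η₀) (sub_eq_zero.1 (eq_zero_of_zeroAt hMc.1 htM _ fun η hη => ?_))
    have : c η = c η₀ := by_contra fun h' => h ⟨η, hη, h'⟩
    exact this ▸ hc η hη
  have hTfin : (genericPoints X).Finite := (Set.Finite.of_finite_image
    ((NoetherianSpace.finite_irreducibleComponents (α := X)).subset
      (by rintro C ⟨η, hη, rfl⟩; exact hη : (fun η : X => closure ({η} : Set X)) '' genericPoints X ⊆ _))
    fun a ha b hb hab => (eq_of_specializes_generic ha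
      (specializes_iff_mem_closure.2 (hab.le (subset_closure rfl)))).symm)
  let V : Finset k := (hTfin.toFinset.image c).erase (c η₀)
  let P : Polynomial k := ∏ v ∈ V, Polynomial.C (c η₀ - v)⁻¹ * (Polynomial.X - Polynomial.C v)
  let φ' : End M := φ
  let e' : End M := Polynomial.aeval φ' P
  let e : M ⟶ M := e'
  have he : ∀ η ∈ genericPoints X, ∀ ε : M.presheaf.stalk η ≃ₗ[X.presheaf.stalk η] X.presheaf.stalk η,
      eigen ε e = constStalk η (P.eval (c η)) := fun η hη ε => by
    have h1 : eigen ε φ' = constStalk η (c η) := by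
      have h := hc η hη (ε.symm 1)
      rw [stalkMapM_sub, sub_eq_zero, stalkMapM_smulMod] at h
      change ε (stalkMapM φ η (ε.symm 1)) = _
      rw [h, map_smul, ε.apply_symm_apply, smul_eq_mul, mul_one]
    have h2 : (eigen ε).comp (algebraMap k (End M)) = constStalk η := RingHom.ext (eigen_algebraMap ε)
    change eigen ε (Polynomial.eval₂ (algebraMap k (End M)) φ' P) = _
    rw [Polynomial.hom_eval₂, h1, h2, Polynomial.eval₂_at_apply]
  have hval : ∀ η ∈ genericPoints X, P.eval (c η) = if c η = c η₀ then 1 else 0 := fun η hη => by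
    simp only [P, Polynomial.eval_prod, Polynomial.eval_mul, Polynomial.eval_C, Polynomial.eval_sub,
      Polynomial.eval_X]
    split_ifs with h
    · refine Finset.prod_eq_one fun v hv => ?_
      rw [h, inv_mul_cancel₀ (sub_ne_zero.2 (Finset.ne_of_mem_erase hv).symm)]
    · refine Finset.prod_eq_zero (Finset.mem_erase.2 ⟨h, Finset.mem_image.2 ⟨η, hTfin.mem_toFinset.2 hη, rfl⟩⟩) ?_
      rw [sub_self, mul_zero]
  have hS1 : ∀ η ∈ S, ZeroAt (e - 𝟙 M) η := fun η hη x => by
    obtain ⟨ε⟩ := hMr η hη.1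
    refine ε.injective ?_
    rw [stalkMapM_sub, stalkMapM_id, map_sub, map_zero, stalk_eq_mul ε e]
    change ε x * eigen ε e - ε x = 0
    rw [he η hη.1 ε, hval η hη.1, if_pos hη.2, map_one, mul_one, sub_self]
  have hT0 : ∀ η ∈ genericPoints X, η ∉ S → ZeroAt e η := fun η hη hS x => by
    obtain ⟨ε⟩ := hMr η hη
    refine ε.injective ?_
    rw [map_zero, stalk_eq_mul ε e]
    change ε x * eigen ε e = 0
    rw [he η hη ε, hval η hη, if_neg fun h => hS ⟨hη, h⟩, map_zero, mul_zero]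
  obtain ⟨Y, hY, GY, πY, ιY, hYs, hYm, hQY, heY, hιY⟩ :=
    exists_quot_of_idem hMc htM hMr e S (fun η h => h.1) ⟨η₀, hη₀, rfl⟩ hS1 hT0
  obtain ⟨Z, hZ, GZ, πZ, ιZ, hZs, hZm, hQZ, heZ, hιZ⟩ :=
    exists_quot_of_idem hMc htM hMr (𝟙 M - e) T (fun η h => h.1) ⟨η₁, hη₁⟩
      (fun η hη x => by
        rw [sub_right_comm, sub_self, zero_sub, ← zero_sub, stalkMapM_sub, stalkMapM_zero, zero_sub,
          hT0 η hη.1 (fun h => hη.2 h.2) x, neg_zero])
      (fun η hη hT x => by
        have h := hS1 η ⟨hη, by_contra fun h => hT ⟨hη, h⟩⟩ x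
        rw [stalkMapM_sub] at h ⊢
        rw [← neg_sub, h, neg_zero])
  have hee : e ≫ e = e := sub_eq_zero.1 (eq_zero_of_zeroAt hMc.1 htM _ fun η hη x => by
    rw [stalkMapM_sub, stalkMapM_comp]
    by_cases h : η ∈ S
    · have h1 := hS1 η h (stalkMapM e η x)
      rw [stalkMapM_sub, stalkMapM_id] at h1
      exact h1
    · rw [hT0 η hη h x, map0, sub_self])
  refine ⟨Y, Z, hY, hZ, GY, GZ, πY, πZ, hYs, hZs, ?_, ?_, hQY, hQZ, ?_⟩
  · exact fun h => hη₁.2 (((hYm η₁ hη₁.1).1 (h.ge (Set.mem_univ _))).2)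
  · exact fun h => ((hZm η₀ hη₀).1 (h.ge (Set.mem_univ _))).2 rfl
  have := hQY.1
  have := hQZ.1
  have hYY : ιY ≫ πY = 𝟙 GY := by
    rw [← cancel_mono ιY, ← cancel_epi πY, Category.id_comp, Category.assoc, heY, ← Category.assoc, heY, hee]
  have hZZ : ιZ ≫ πZ = 𝟙 GZ := by
    rw [← cancel_mono ιZ, ← cancel_epi πZ, Category.id_comp, Category.assoc, heZ, ← Category.assoc, heZ]
    simp [Preadditive.sub_comp, Preadditive.comp_sub, hee]
  have hYZ : ιY ≫ πZ = 0 := by
    rw [← cancel_mono ιZ, ← cancel_epi πY, zero_comp, comp_zero, Category.assoc, heZ, ← Category.assoc, heY]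
    simp [Preadditive.comp_sub, hee]
  have hZY : ιZ ≫ πY = 0 := by
    rw [← cancel_mono ιY, ← cancel_epi πZ, zero_comp, comp_zero, Category.assoc, heY, ← Category.assoc, heZ]
    simp [Preadditive.sub_comp, hee]
  refine ⟨biprod.desc ιY ιZ, ?_, ?_⟩
  · rw [biprod.lift_desc, heY, heZ, add_sub_cancel]
  · refine biprod.hom_ext' _ _ (biprod.hom_ext _ _ ?_ ?_) (biprod.hom_ext _ _ ?_ ?_) <;>
      simp [hYY, hZZ, hYZ, hZY]

end Groth.Agent.TF64
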