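import Groth.Agent.TF64.Basic
import Groth.Agent.Formal27.Pullback
import Groth.Agent.Dev46.Scheme
import Groth.Agent.SchBasics.Reduced

/-!
Direct images from a closed subscheme.
-/

set_option autoImplicit false
universe u

open CategoryTheory CategoryTheory.Limits AlgebraicGeometry TopologicalSpace
open Groth.Agent.QC70 (stalkMapM germM)

namespace Groth.Agent.TF64

variable {X Z : Scheme.{u}} [IsLocallyNoetherian X] (i : Z ⟶ X) [IsClosedImmersion i]

theorem exists_map_eq {J J' : Z.Modules} (hJ : Coh.IsCoh J)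
    (g : (Scheme.Modules.pushforward i).obj J ⟶ (Scheme.Modules.pushforward i).obj J') :
    ∃ h : J ⟶ J', (Scheme.Modules.pushforward i).map h = g := by
  let adj := Scheme.Modules.pullbackPushforwardAdjunction i
  have := Dev46.isIso_counit i hJ
  refine ⟨inv (adj.counit.app J) ≫ (adj.homEquiv _ _).symm g, ?_⟩
  have h1 : (Scheme.Modules.pushforward i).map (inv (adj.counit.app J)) =
      adj.unit.app ((Scheme.Modules.pushforward i).obj J) := by
    rw [Functor.map_inv, IsIso.inv_eq_of_inv_hom_id]
    exact adj.right_triangle_components J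
  rw [Functor.map_comp, h1, ← adj.homEquiv_unit, Equiv.apply_symm_apply]

theorem subsingleton_push {J : Z.Modules} (hJ : Coh.IsCoh J) {x : X} (hx : x ∉ Set.range i) :
    Subsingleton (((Scheme.Modules.pushforward i).obj J).presheaf.stalk x) :=
  haveI := hJ.2
  subsingleton_stalk_iff.2 fun h => hx (QC70.support_pushforward_subset i J h)

theorem not_isZero_push {J : Z.Modules} (hJ : ¬ IsZero J) :
    ¬ IsZero ((Scheme.Modules.pushforward i).obj J) := fun h => hJ <| by
  haveI := QC70.faithful_pushforward i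
  rw [IsZero.iff_id_eq_zero]
  refine (Scheme.Modules.pushforward i).map_injective ?_
  exact h.eq_of_src _ _

omit [IsLocallyNoetherian X] in
theorem range_subschι (Y : Set X) (hY : IsClosed Y) : Set.range (VecSt.subschι X Y hY) = Y := by
  rw [Scheme.IdealSheafData.range_subschemeι, Scheme.IdealSheafData.coe_support_vanishingIdeal]
  rfl

section Subcurve

omit [IsLocallyNoetherian X]

/-- The generic points of a closed subcurve are generic points of the ambient scheme. -/
theorem generic_image {Y : Set X} {hY : IsClosed Y} (hYs : VecSt.IsSubcurve X Y)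
    {ζ : VecSt.subsch X Y hY} (hζ : ζ ∈ genericPoints (VecSt.subsch X Y hY)) :
    VecSt.subschι X Y hY ζ ∈ genericPoints X ∧ VecSt.subschι X Y hY ζ ∈ Y := by
  have hr := range_subschι Y hY
  have hm : VecSt.subschι X Y hY ζ ∈ Y := hr.le (Set.mem_range_self ζ)
  refine ⟨?_, hm⟩
  obtain ⟨S, hS, -, rfl⟩ := hYs
  obtain ⟨C, hC, hζC⟩ := Set.mem_sUnion.1 hm
  obtain ⟨η, hη, he⟩ := exists_generic_of_component (hS hC)
  obtain ⟨w, hw⟩ := hr.ge (Set.mem_sUnion.2 ⟨C, hC, he.le (subset_closure rfl)⟩)
  have hsp : w ⤳ ζ := by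
    rw [← (VecSt.subschι X _ hY).isClosedEmbedding.isInducing.specializes_iff, hw]
    exact specializes_iff_mem_closure.2 (by rw [he]; exact hζC)
  have e := eq_of_specializes_generic hζ hsp
  subst e
  rw [hw]
  exact hη

/-- A generic point of `X` in `Y` is a generic point of the subcurve. -/
theorem exists_generic_preimage {Y : Set X} {hY : IsClosed Y} {η : X} (hη : η ∈ genericPoints X) (h : η ∈ Y) :
    ∃ ζ ∈ genericPoints (VecSt.subsch X Y hY), VecSt.subschι X Y hY ζ = η := by
  obtain ⟨ζ, hζ⟩ := (range_subschι Y hY).ge h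
  refine ⟨ζ, Mero90.MaxPt.closure_mem fun w hw => ?_, hζ⟩
  refine (VecSt.subschι X Y hY).isClosedEmbedding.injective ?_
  rw [hζ]
  exact eq_of_specializes_generic hη (hζ ▸ hw.map (VecSt.subschι X Y hY).continuous)

end Subcurve

omit [IsLocallyNoetherian X] in
/-- A map into the direct image of a torsion-free module vanishes when it vanishes at the generic points. -/
theorem eq_zero_of_zeroAt_push [IsLocallyNoetherian Z] [AlgebraicGeometry.IsReduced Z] {F : X.Modules}
    {J : Z.Modules} (hJ : Coh.IsQCoh J) (htJ : TorSh.IsTorsionFree J)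
    (φ : F ⟶ (Scheme.Modules.pushforward i).obj J) (h : ∀ ζ ∈ genericPoints Z, ZeroAt φ (i ζ)) : φ = 0 := by
  ext V m
  refine (Ega11.TorFreeAss.eq_zero_of_germ J hJ htJ (V := i ⁻¹ᵁ V) (φ.app V m) fun z hz hf => ?_).trans rfl
  refine (QC70.pushStalk_germ i J z hz _).symm.trans ?_
  rw [← QC70.stalkMapM_germ φ hz m, h z (isField_mem_genericPoints hf)]
  exact map_zero _

end Groth.Agent.TF64
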