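import Groth.Agent.TF64.Beta
import Groth.Agent.Amp73.PullTensor
import Groth.Prelude.Def_FrameBundle

/-!
The special fibre of a flat proper family over a discrete valuation ring, as in the statements.
-/

set_option autoImplicit false
universe u

open CategoryTheory CategoryTheory.Limits AlgebraicGeometry TopologicalSpace

namespace Groth.Agent.TF64

theorem isFinLocFreeOfRank_pull {X Z : Scheme.{u}} (φ : X ⟶ Z) {n : ℕ} {M : Z.Modules}
    (h : FlatMod.IsFinLocFreeOfRank n M) :
    FlatMod.IsFinLocFreeOfRank n ((Scheme.Modules.pullback φ).obj M) := fun y => by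
  obtain ⟨V, hyV, ⟨i⟩⟩ := h (φ y)
  exact ⟨φ ⁻¹ᵁ V, hyV, ⟨((Amp73.pullRestrictIso φ V).app M).symm ≪≫
      (Scheme.Modules.pullback (φ ∣_ V)).mapIso
        (((Scheme.Modules.restrictFunctorIsoPullback V.ι).app M).symm ≪≫ i) ≪≫
      FrB.pullbackFreeIso (φ ∣_ V) n⟩⟩

theorem setting {R : Type u} [CommRing R] [IsDomain R] [IsDiscreteValuationRing R] {X : Scheme.{u}}
    (f : X ⟶ Spec (CommRingCat.of R)) [IsProper f] {Xs : Scheme.{u}}
    [Xs.Over (Spec (CommRingCat.of (IsLocalRing.ResidueField R)))] {i : Xs ⟶ X}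
    (hsq : IsPullback i (Xs ↘ Spec (CommRingCat.of (IsLocalRing.ResidueField R))) f
      (Spec.map (CommRingCat.ofHom (IsLocalRing.residue R))))
    [AlgebraicGeometry.IsReduced Xs] {I : X.Modules} (hIc : Coh.IsCoh I) (hIf : FlatMod.IsFlatOver f I)
    (hM : TFOne.IsTF1 Xs ((Scheme.Modules.pullback i).obj I)) {Y : Set Xs} {GY : Xs.Modules}
    {πY : (Scheme.Modules.pullback i).obj I ⟶ GY}
    (hGY : TFOne.IsQuotOn Xs ((Scheme.Modules.pullback i).obj I) Y GY πY) {IY : X.Modules}
    (hIY : IY = kernel ((Scheme.Modules.pullbackPushforwardAdjunction i).unit.app I ≫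
      (Scheme.Modules.pushforward i).map πY)) :
    IsProper (Xs ↘ Spec (CommRingCat.of (IsLocalRing.ResidueField R))) ∧
      AlgebraicGeometry.IsNoetherian Xs ∧ TFOne.IsTF1 Xs ((Scheme.Modules.pullback i).obj IY) ∧
        ∃ (α : GY ⟶ (Scheme.Modules.pullback i).obj IY) (β : (Scheme.Modules.pullback i).obj IY ⟶ kernel πY)
          (w : α ≫ β = 0), (ShortComplex.mk α β w).ShortExact := by
  letI : X.Over (Spec (CommRingCat.of R)) := ⟨f⟩
  haveI : IsProper (X ↘ Spec (CommRingCat.of R)) := ‹IsProper f›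
  have hp : IsProper (Xs ↘ Spec (CommRingCat.of (IsLocalRing.ResidueField R))) :=
    MorphismProperty.of_isPullback hsq inferInstance
  exact ⟨hp, exists_modification (X := X) hsq hIc hIf hM hGY hIY⟩

end Groth.Agent.TF64
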