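import Groth.Agent.TF64.Beta
import Groth.Agent.Crv77.Sections

/-!
The modification decomposes along the subcurve exactly when the Euler characteristic does not drop.
-/

set_option autoImplicit false
universe u

open CategoryTheory CategoryTheory.Limits AlgebraicGeometry TopologicalSpace
open Groth.Agent.QC70 (stalkMapM germM)

namespace Groth.Agent.TF64

variable {k : Type u} [Field k] {X : Scheme.{u}} [X.Over (Spec (CommRingCat.of k))]
  [IsProper (X ↘ Spec (CommRingCat.of k))]

theorem isZero_of_euler_eq_zero (hdim : topologicalKrullDim X ≤ 1) {Q : X.Modules} (hQ : Coh.IsCoh Q)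
    (h : ∀ η ∈ genericPoints X, Subsingleton (Q.presheaf.stalk η)) (he : Curv2.euler k X Q = 0) : IsZero Q := by
  have := Crv77.isNoetherian_of_proper k X
  have := hQ.2
  have hgen : ∀ z ∈ CohB1.support Q, ∃ ζ, ζ ⤳ z ∧ z ≠ ζ := fun z hz => by
    obtain ⟨η, hη, hs⟩ := exists_generic z
    exact ⟨η, hs, fun e => subsingleton_stalk_iff.1 (h η hη) (e ▸ hz)⟩
  have hfin := Crv77.finite_of_isClosed hdim (QC70.isClosed_support Q) hgen
  have hcl : ∀ x ∈ CohB1.support Q, IsClosed ({x} : Set X) := fun x hx => by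
    obtain ⟨ζ, hs, hne⟩ := hgen x hx
    exact Crv77.isClosed_singleton_of_generalization hdim hs hne
  have hsupp : Crv77.SuppIn Q (CohB1.support Q) := fun x hx => subsingleton_stalk_iff.2 hx
  have hX := Crv77.curveCoh_of_proper k X hdim
  rw [hX.euler_eq_of_suppIn hQ hsupp hfin hcl] at he
  have := hX.finite _ hQ 0
  have h0 : Subsingleton (Coh.HH X Q 0) :=
    Module.finrank_zero_iff.1 (show Module.finrank k (Coh.HH X Q 0) = 0 by exact_mod_cast he)
  have hΓ : Subsingleton Γ(Q, ⊤) := (Crv77.sec Q).toEquiv.symm.subsingleton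
  refine QC70.isZero_of_sections_subsingleton fun W => subsingleton_of_forall_eq 0 fun s => ?_
  obtain ⟨t, rfl⟩ := hsupp.surjective_res hfin hcl (le_top : W ≤ ⊤) s
  rw [Subsingleton.elim t 0, QC70.res_zero]

variable [AlgebraicGeometry.IsReduced X]

theorem decompose_iff (hpure : ∀ C ∈ irreducibleComponents (X : Type u), topologicalKrullDim C = 1)
    {M N : X.Modules} (hM : TFOne.IsTF1 X M) (hN : TFOne.IsTF1 X N) {Y Y' : Set X}
    (hY' : ∀ η ∈ genericPoints X, (η ∈ Y' ↔ η ∉ Y))
    {GY G1 G2 : X.Modules} {πY : M ⟶ GY} {π1 : N ⟶ G1} {π2 : N ⟶ G2}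
    (hGY : TFOne.IsQuotOn X M Y GY πY) (hG1 : TFOne.IsQuotOn X N Y G1 π1) (hG2 : TFOne.IsQuotOn X N Y' G2 π2)
    {α : GY ⟶ N} {β : N ⟶ kernel πY} {w : α ≫ β = 0} (hS : (ShortComplex.mk α β w).ShortExact) :
    IsIso (biprod.lift π1 π2) ↔ Curv2.euler k X G1 = Curv2.euler k X GY := by
  have := Crv77.isNoetherian_of_proper k X
  have hdim := Crv77.dim_le_one_of_components hpure
  obtain ⟨hMc, htM, hMr⟩ := hM
  obtain ⟨hNc, htN, hNr⟩ := hN
  haveI := hGY.1
  obtain ⟨GT, πT, hGT⟩ := exists_quot hMc htM hMr genClosed_univ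
  have e0 := euler_quot_univ (k := k) hpure ⟨hMc, htM, hMr⟩ hGT
  have e2 := euler_quot_away (k := k) hpure ⟨hMc, htM, hMr⟩ ⟨hNc, htN, hNr⟩ (U := Set.univ) (Set.subset_univ Y)
    (fun η hη => ⟨fun _ => (em (η ∈ Y)).imp_right (hY' η hη).2, fun _ => trivial⟩)
    (fun η hη h => (hY' η hη).1 h) hGY hGT hG2 hS
  have e3 := euler_eq_kernel_add (k := k) hdim πY hMc hGY.2.1.1
  have e4 := euler_add (k := k) hdim hS hGY.2.1 hNc
  dsimp only at e4
  let L := biprod.lift π1 π2
  let S := ShortComplex.mk (biprod.inl : G1 ⟶ G1 ⊞ G2) biprod.snd biprod.inl_snd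
  have hSp : S.ShortExact := (ShortComplex.Splitting.ofHasBinaryBiproduct G1 G2).shortExact
  have hBc : Coh.IsCoh (G1 ⊞ G2) := QC70.isCoh_X₂ S hSp hG1.2.1 hG2.2.1
  have e5 := euler_add (k := k) hdim hSp hG1.2.1 hBc
  dsimp only [S] at e5
  have hL : ∀ η ∈ genericPoints X, Function.Bijective (stalkMapM L η) := fun η hη => by
    have hid : ∀ y : (G1 ⊞ G2).presheaf.stalk η, y = stalkMapM biprod.inl η (stalkMapM biprod.fst η y) +
        stalkMapM biprod.inr η (stalkMapM biprod.snd η y) := fun y => by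
      rw [← stalkMapM_comp, ← stalkMapM_comp, ← stalkMapM_add, biprod.total, stalkMapM_id]
    have h1 : ∀ n, stalkMapM biprod.fst η (stalkMapM L η n) = stalkMapM π1 η n := fun n => by
      rw [← stalkMapM_comp, biprod.lift_fst]
    have h2 : ∀ n, stalkMapM biprod.snd η (stalkMapM L η n) = stalkMapM π2 η n := fun n => by
      rw [← stalkMapM_comp, biprod.lift_snd]
    by_cases hy : η ∈ Y
    · have hb := quot_bijective hG1 hNr hη hy
      have := quot_subsingleton hG2 fun h => (hY' η hη).1 h hy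
      refine ⟨fun a b hab => hb.1 (by rw [← h1, ← h1, hab]), fun y => ?_⟩
      obtain ⟨n, hn⟩ := hb.2 (stalkMapM biprod.fst η y)
      refine ⟨n, ?_⟩
      rw [hid (stalkMapM L η n), h1, h2, hn, hid y]
      congr 2
      · rw [← hid y]
      · exact Subsingleton.elim _ _
    · have hb := quot_bijective hG2 hNr hη ((hY' η hη).2 hy)
      have := quot_subsingleton hG1 hy
      refine ⟨fun a b hab => hb.1 (by rw [← h2, ← h2, hab]), fun y => ?_⟩
      obtain ⟨n, hn⟩ := hb.2 (stalkMapM biprod.snd η y)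
      refine ⟨n, ?_⟩
      rw [hid (stalkMapM L η n), h1, h2, hn, hid y]
      congr 2
      · exact Subsingleton.elim _ _
      · rw [← hid y]
  haveI : Mono L := mono_of_injective_generic hNc.1 htN L fun η hη => (hL η hη).1
  have e6 := euler_eq_add_cokernel (k := k) hdim L hNc hBc
  constructor
  · intro h
    haveI : IsIso L := h
    have := Crv77.euler_congr (k := k) (asIso L)
    linarith
  · intro h
    have hz := isZero_of_euler_eq_zero (k := k) hdim (QC70.isCoh_cokernel L hNc.1 hBc)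
      (fun η hη => QC70.subsingleton_stalk_cokernel L η (hL η hη).2) (by linarith)
    haveI : Epi L := Preadditive.epi_of_isZero_cokernel L hz
    exact isIso_of_mono_of_epi L

end Groth.Agent.TF64
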