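import Groth.Agent.TF64.Beta
import Groth.Agent.Amp73.PullTensor

/-!
The torsion-free quotient on a subcurve as a sheaf on the subcurve.
-/

set_option autoImplicit false
universe u

open CategoryTheory CategoryTheory.Limits AlgebraicGeometry TopologicalSpace
open Groth.Agent.QC70 (stalkMapM germM)

namespace Groth.Agent.TF64

variable {X : Scheme.{u}} [IsNoetherian X] [AlgebraicGeometry.IsReduced X] {Y : Set X} {hY : IsClosed Y}

/-- A torsion-free module supported on `Y` lives on the reduced subscheme `Y`. -/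
theorem killed_subschι {G : X.Modules} (hGc : Coh.IsCoh G) (htG : TorSh.IsTorsionFree G)
    (hsupp : CohB1.support G ⊆ Y) : Dev46.killed (VecSt.subschι X Y hY) G :=
  ⟨hGc, fun U a ha s => by
    refine Ega11.TorFreeAss.eq_zero_of_germ G hGc.1 htG _ fun z hz hf => ?_
    rw [show G.presheaf.germ U.1 z hz (a • s) = germM G U.1 z hz (a • s) from rfl, QC70.germM_smul]
    by_cases hzY : z ∈ Y
    · obtain ⟨w, rfl⟩ := (range_subschι Y hY).ge hzY
      set i := VecSt.subschι X Y hY
      letI := hf.toField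
      have h0 : i.stalkMap w (X.presheaf.germ U.1 (i w) hz a) = 0 := by
        rw [Scheme.Hom.germ_stalkMap_apply]
        rw [Scheme.Hom.ker_apply, RingHom.mem_ker] at ha
        rw [ha, map_zero]
      rw [(map_eq_zero_iff (i.stalkMap w).hom (i.stalkMap w).hom.injective).1 h0, zero_smul]
    · have := subsingleton_stalk_iff.2 fun h => hzY (hsupp h)
      exact Subsingleton.elim _ _⟩

/-- Modules on the subscheme whose direct image is torsion-free are torsion-free, and conversely. -/
theorem isTorsionFree_of_push (hYs : VecSt.IsSubcurve X Y) {J : (VecSt.subsch X Y hY).Modules} (hJc : Coh.IsCoh J)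
    (h : TorSh.IsTorsionFree ((Scheme.Modules.pushforward (VecSt.subschι X Y hY)).obj J)) :
    TorSh.IsTorsionFree J := by
  set i := VecSt.subschι X Y hY
  haveI : IsLocallyNoetherian (VecSt.subsch X Y hY) := LocallyOfFiniteType.isLocallyNoetherian i
  haveI : CompactSpace (VecSt.subsch X Y hY) := QuasiCompact.compactSpace_of_compactSpace i
  haveI : IsNoetherian (VecSt.subsch X Y hY) := {}
  haveI : AlgebraicGeometry.IsReduced (VecSt.subsch X Y hY) := SchBasics.isReduced_vanishingIdeal_subscheme _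
  refine isTorsionFree_of_detect fun W s hs => ?_
  obtain ⟨V, hV, hVW⟩ := i.isClosedEmbedding.isInducing.isOpen_iff.1 W.2
  obtain rfl : W = i ⁻¹ᵁ ⟨V, hV⟩ := Opens.ext hVW.symm
  refine Ega11.TorFreeAss.eq_zero_of_germ ((Scheme.Modules.pushforward i).obj J)
    (QC70.isCoh_pushforward i J hJc).1 h (V := ⟨V, hV⟩) s fun z hz hf => ?_
  by_cases hzY : z ∈ Y
  · obtain ⟨w, hw, rfl⟩ := exists_generic_preimage (hY := hY) (isField_mem_genericPoints hf) hzY
    refine (QC70.bijective_pushStalk i J w).1 ?_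
    rw [map_zero]
    exact (QC70.pushStalk_germ i J w hz s).trans (hs w hw hz)
  · have := subsingleton_push i hJc (x := z) fun h => hzY ((range_subschι Y hY).le h)
    exact Subsingleton.elim _ _

theorem isTorsionFree_push (hYs : VecSt.IsSubcurve X Y) {J : (VecSt.subsch X Y hY).Modules} (hJc : Coh.IsCoh J)
    (h : TorSh.IsTorsionFree J) :
    TorSh.IsTorsionFree ((Scheme.Modules.pushforward (VecSt.subschι X Y hY)).obj J) := by
  set i := VecSt.subschι X Y hY
  haveI : IsLocallyNoetherian (VecSt.subsch X Y hY) := LocallyOfFiniteType.isLocallyNoetherian i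
  haveI : AlgebraicGeometry.IsReduced (VecSt.subsch X Y hY) := SchBasics.isReduced_vanishingIdeal_subscheme _
  refine isTorsionFree_of_detect fun W s hs => ?_
  refine (Ega11.TorFreeAss.eq_zero_of_germ J hJc.1 h (V := i ⁻¹ᵁ W) s fun z hz hf => ?_)
  refine (QC70.pushStalk_germ i J z hz s).symm.trans ?_
  rw [hs (i z) (generic_image hYs (isField_mem_genericPoints hf)).1 hz]
  exact map_zero _

variable {M GY : X.Modules} {πY : M ⟶ GY} (hM : TFOne.IsTF1 X M) (hGY : TFOne.IsQuotOn X M Y GY πY)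
  (hYs : VecSt.IsSubcurve X Y)
include hM hGY hYs

theorem isTF1_restrict :
    IsIso ((Scheme.Modules.pullbackPushforwardAdjunction (VecSt.subschι X Y hY)).unit.app GY) ∧
      TFOne.IsTF1 (VecSt.subsch X Y hY) ((Scheme.Modules.pullback (VecSt.subschι X Y hY)).obj GY) := by
  set i := VecSt.subschι X Y hY
  have hiso := Dev46.isIso_unit i (killed_subschι hGY.2.1 hGY.2.2.1 hGY.2.2.2.le)
  let J := (Scheme.Modules.pullback i).obj GY
  let u := (Scheme.Modules.pullbackPushforwardAdjunction i).unit.app GY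
  have hJc : Coh.IsCoh J := Dev46.isCoh_pullback i hGY.2.1
  have hP : TorSh.IsTorsionFree ((Scheme.Modules.pushforward i).obj J) := by
    haveI := hiso
    exact isTorsionFree_of_mono (inv u) hGY.2.2.1
  refine ⟨hiso, hJc, isTorsionFree_of_push hYs hJc hP, fun ζ hζ => ?_⟩
  obtain ⟨hη, hηY⟩ := generic_image hYs hζ
  letI := (isField_stalk hη).toField
  haveI : AlgebraicGeometry.IsReduced (VecSt.subsch X Y hY) := SchBasics.isReduced_vanishingIdeal_subscheme _
  letI := (isField_stalk hζ).toField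
  obtain ⟨e⟩ := hM.2.2 _ hη
  haveI := hiso
  let φ : M.presheaf.stalk (i ζ) → J.presheaf.stalk ζ := fun m =>
    QC70.pushStalk i J ζ (stalkMapM u (i ζ) (stalkMapM πY (i ζ) m))
  have hφb : Function.Bijective φ := (QC70.bijective_pushStalk i J ζ).comp
    (Function.Bijective.comp ⟨QC70.injective_stalkMapM_of_mono u _, QC70.surjective_stalkMapM_of_epi u _⟩
      (quot_bijective hGY hM.2.2 hη hηY))
  have hφs : ∀ (r : X.presheaf.stalk (i ζ)) m, φ (r • m) = i.stalkMap ζ r • φ m := fun r m => by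
    simp only [φ]
    rw [show stalkMapM πY (i ζ) (r • m) = r • stalkMapM πY (i ζ) m from map_smul (QC70.stalkLinear πY (i ζ)) r m,
      show stalkMapM u (i ζ) (r • stalkMapM πY (i ζ) m) = r • stalkMapM u (i ζ) (stalkMapM πY (i ζ) m) from
        map_smul (QC70.stalkLinear u (i ζ)) r _]
    exact QC70.pushStalk_smul i J ζ r _
  let v := φ (e.symm 1)
  have hv : ∀ r, φ (e.symm r) = i.stalkMap ζ r • v := fun r => by
    rw [← hφs, ← map_smul, smul_eq_mul, mul_one]
  refine ⟨(LinearEquiv.ofBijective (LinearMap.toSpanSingleton _ _ v) ⟨fun a b hab => ?_, fun y => ?_⟩).symm⟩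
  · obtain ⟨a, rfl⟩ := i.stalkMap_surjective ζ a
    obtain ⟨b, rfl⟩ := i.stalkMap_surjective ζ b
    simp only [LinearMap.toSpanSingleton_apply, ← hv] at hab
    rw [e.symm.injective (hφb.1 hab)]
  · obtain ⟨m, rfl⟩ := hφb.2 y
    exact ⟨i.stalkMap ζ (e m), by rw [LinearMap.toSpanSingleton_apply, ← hv, e.symm_apply_apply]⟩

variable {k : Type u} [Field k] [X.Over (Spec (CommRingCat.of k))]
  [IsProper (X ↘ Spec (CommRingCat.of k))]

/-- The quotient of a semistable sheaf is semistable on the subcurve. -/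
theorem isSemistable_restrict (hpure : ∀ C ∈ irreducibleComponents (X : Type u), topologicalKrullDim C = 1)
    {E : X.Modules} {r : ℕ} (hE : FlatMod.IsFinLocFreeOfRank r E)
    (hss : TFOne.IsSemistable X k (X ↘ Spec (CommRingCat.of k)) M E r) :
    TFOne.IsSemistable (VecSt.subsch X Y hY) k (VecSt.subschι X Y hY ≫ (X ↘ Spec (CommRingCat.of k)))
      ((Scheme.Modules.pullback (VecSt.subschι X Y hY)).obj GY)
      ((Scheme.Modules.pullback (VecSt.subschι X Y hY)).obj E) r := by
  classical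
  obtain ⟨hiso, hJ⟩ := isTF1_restrict (hY := hY) hM hGY hYs
  set i := VecSt.subschι X Y hY
  refine ⟨hJ, fun T hT hTs hTne G π hG => ?_⟩
  letI : (VecSt.subsch X Y hY).Over (Spec (CommRingCat.of k)) := ⟨i ≫ (X ↘ Spec (CommRingCat.of k))⟩
  haveI : IsLocallyNoetherian (VecSt.subsch X Y hY) := LocallyOfFiniteType.isLocallyNoetherian i
  let T' : Set X := i '' T
  have hT' : IsClosed T' := i.isClosedEmbedding.isClosedMap T hT
  let ρ : M ⟶ (Scheme.Modules.pushforward i).obj G :=
    πY ≫ (Scheme.Modules.pullbackPushforwardAdjunction i).unit.app GY ≫ (Scheme.Modules.pushforward i).map π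
  haveI : Epi π := hG.1
  haveI : Epi πY := hGY.1
  haveI := hiso
  haveI : Epi ((Scheme.Modules.pushforward i).map π) := QC70.epi_of_surjective_stalkMapM _ fun x y => by
    by_cases hx : x ∈ Set.range i
    · obtain ⟨w, rfl⟩ := hx
      obtain ⟨a, ha⟩ := QC70.surjective_stalkMapM_of_epi π w (QC70.pushStalk i G w y)
      obtain ⟨a, rfl⟩ := (QC70.bijective_pushStalk i _ w).2 a
      exact ⟨a, (QC70.bijective_pushStalk i G w).1 ((QC70.pushStalk_stalkMapM i _ π w a).trans ha)⟩
    · have := subsingleton_push i hG.2.1 hx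
      exact ⟨0, Subsingleton.elim _ _⟩
  have hQ : TFOne.IsQuotOn X M T' ((Scheme.Modules.pushforward i).obj G) ρ := by
    refine ⟨inferInstance, QC70.isCoh_pushforward i G hG.2.1, isTorsionFree_push hYs hG.2.1 hG.2.2.1,
      Set.Subset.antisymm (fun x hx => ?_) ?_⟩
    · by_cases hxr : x ∈ Set.range i
      · obtain ⟨w, rfl⟩ := hxr
        refine ⟨w, hG.2.2.2.le fun h => hx ?_, rfl⟩
        exact (QC70.bijective_pushStalk i G w).1.subsingleton
      · exact absurd (subsingleton_push i hG.2.1 hxr) hx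
    · rintro _ ⟨w, hw, rfl⟩ hsub
      exact subsingleton_stalk_iff.1 (QC70.bijective_pushStalk i G w).2.subsingleton (hG.2.2.2.ge hw)
  have hT'g : GenClosed T' := ⟨hT', by
    rintro _ ⟨w, hw, rfl⟩
    obtain ⟨ζ, hζ, hζT, hs⟩ := (genClosed_of_isSubcurve hTs hT).2 w hw
    exact ⟨i ζ, (generic_image hYs hζ).1, ⟨ζ, hζT, rfl⟩, hs.map i.continuous⟩⟩
  obtain ⟨ζ₀, hζ₀, hζ₀T⟩ := exists_generic_mem_subcurve hTs
  have hT's := isSubcurve_of_genClosed hT'g ⟨i ζ₀, (generic_image hYs hζ₀).1, ⟨ζ₀, hζ₀T, rfl⟩⟩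
  have hT'ne : T' ≠ Set.univ := fun h => hTne (Set.eq_univ_of_forall fun w => by
    obtain ⟨w', hw', e⟩ := h.ge (Set.mem_univ (i w))
    exact i.isClosedEmbedding.injective e ▸ hw')
  have hpos := hss.2 T' hT' hT's hT'ne _ ρ hQ
  suffices h : TFOne.rBeta (VecSt.subsch X Y hY) k (i ≫ (X ↘ Spec (CommRingCat.of k))) T hT
      ((Scheme.Modules.pullback i).obj E) r G =
      TFOne.rBeta X k (X ↘ Spec (CommRingCat.of k)) T' hT' E r ((Scheme.Modules.pushforward i).obj G) by
    rw [h]
    exact hpos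
  obtain ⟨W, c, hW, -, hclosed, hb⟩ := exists_deg_weights (k := k) hpure hE
  let j := VecSt.subschι (VecSt.subsch X Y hY) T hT
  letI : (VecSt.subsch (VecSt.subsch X Y hY) T hT).Over (Spec (CommRingCat.of k)) :=
    ⟨j ≫ i ≫ (X ↘ Spec (CommRingCat.of k))⟩
  haveI : AlgebraicGeometry.IsReduced (VecSt.subsch (VecSt.subsch X Y hY) T hT) :=
    SchBasics.isReduced_vanishingIdeal_subscheme _
  have hd := hclosed (j ≫ i) (by rw [Category.assoc]; rfl)
  have hrange : Set.range (j ≫ i) = T' := by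
    rw [show ((j ≫ i : _ ⟶ X) : _ → X) = i ∘ j from rfl, Set.range_comp, range_subschι]
  rw [Finset.filter_congr (q := (· ∈ T')) (fun η _ => by rw [hrange])] at hd
  refine Int.cast_injective (α := ℚ) ?_
  rw [hb T' hT' _, ← hd]
  simp only [TFOne.rBeta]
  rw [Curves2.Ample.euler_push k i rfl G hG.2.1]
  simp only [Curv2.deg]
  rw [← Crv77.euler_congr (k := k) ((Scheme.Modules.pullbackComp j i).app E)]
  push_cast
  rfl

end Groth.Agent.TF64
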