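import Groth.Agent.TF64.Tower
import Groth.Agent.Dev46.Scheme
import Groth.Agent.S0798
import Groth.Agent.S0799

/-!
A decomposing tower over a complete discrete valuation ring comes from a flat quotient.
-/

set_option autoImplicit false
universe u

open CategoryTheory CategoryTheory.Limits AlgebraicGeometry TopologicalSpace Opposite

namespace Groth.Agent.TF64

variable {R : Type u} [CommRing R] [IsDomain R] [IsDiscreteValuationRing R] {X : Scheme.{u}}
  [X.Over (Spec (CommRingCat.of R))] [IsProper (X ↘ Spec (CommRingCat.of R))]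

theorem isProperOver_support {M : X.Modules} (hM : Coh.IsCoh M) :
    ClSub.IsProperOver (X ↘ Spec (CommRingCat.of R)) (CohB1.support M) := by
  haveI := hM.2
  exact ⟨QC70.isClosed_support M, inferInstance⟩

variable {Xs : Scheme.{u}} {i : Xs ⟶ X} {qs : Xs ⟶ Spec (CommRingCat.of (IsLocalRing.ResidueField R))}
  (hsq : IsPullback i qs (X ↘ Spec (CommRingCat.of R)) (Spec.map (CommRingCat.ofHom (IsLocalRing.residue R))))

include hsq in
theorem Tower.exists_quotient_coh {t : R} (ht : IsLocalRing.maximalIdeal R = Ideal.span {t})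
    [IsAdicComplete (IsLocalRing.maximalIdeal R) R] (T : Tower i t) (hG0 : Coh.IsCoh (T.G 0)) :
    ∃ (F : X.Modules) (p : T.In 0 ⟶ F), Coh.IsCoh F ∧ Epi p ∧ FlatMod.IsFlatOver (X ↘ Spec (CommRingCat.of R)) F ∧
      ∃ e : (Scheme.Modules.pullback i).obj F ≅ T.G 0, (Scheme.Modules.pullback i).map p ≫ e.hom = T.π 0 := by
  have hci := isClosedImmersion_special _ i hsq
  have : IsLocallyNoetherian X := LocallyOfFiniteType.isLocallyNoetherian (X ↘ Spec (CommRingCat.of R))
  haveI hcompl : IsAdicComplete (Ideal.span {t}) R := ht ▸ inferInstance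
  let I : Ideal R := Ideal.span {t}
  obtain ⟨F, hF, hFs, ⟨θ⟩⟩ := S0799.result R I X T.sys T.isCohFormal (isProperOver_support (T.isCoh_Q 0))
  have hcmap : ∀ (M : X.Modules) (n : ℕ),
      (Formal.completion I M).map (homOfLE (Nat.le_succ n)).op = Formal.modPowTrans I (n + 1) M := fun M n =>
    Functor.ofOpSequence_map_homOfLE_succ _ n
  let Θ : ∀ n, Formal.modPow I (n + 1) F ≅ T.Q n := fun n => θ.app (op n)
  have hΘ : ∀ n, Formal.modPowTrans I (n + 1) F ≫ (Θ n).hom = (Θ (n + 1)).hom ≫ T.trans n := fun n => by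
    have h := θ.hom.naturality (homOfLE (Nat.le_succ n)).op
    rw [hcmap, T.sys_map] at h
    exact h
  let w₀ : ∀ n, Formal.modPow I (n + 1) (T.In 0) ⟶ T.Q n := fun n =>
    cokernel.desc _ (T.q n) (Formal27.smulFamily_comp_eq_zero _ fun a ha => T.smul_q n ha)
  have hw₀ : ∀ n, Formal.modPowπ I (n + 1) (T.In 0) ≫ w₀ n = T.q n := fun n => cokernel.π_desc _ _ _
  let ω : Formal.completion I (T.In 0) ⟶ T.sys := NatTrans.ofOpSequence w₀ (fun n => by
    rw [show (homOfLE (n.le_add_right 1)).op = (homOfLE (Nat.le_succ n)).op from Subsingleton.elim _ _,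
      T.sys_map, hcmap]
    show Formal.modPowTrans I (n + 1) (T.In 0) ≫ w₀ n = w₀ (n + 1) ≫ T.trans n
    rw [← cancel_epi (Formal.modPowπ I (n + 1 + 1) (T.In 0)), ← Category.assoc, ← Category.assoc,
      Formal.modPowπ_trans, hw₀, hw₀, T.q_trans])
  obtain ⟨p, hp, -⟩ := S0798.result R I X (T.In 0) F (T.coh 0) hF (isProperOver_support (T.coh 0)) hFs
    (ω ≫ θ.inv)
  have hp' : ∀ n, p ≫ Formal.modPowπ I (n + 1) F = T.q n ≫ (Θ n).inv := fun n => by
    have h : Formal.modPowπ I (n + 1) (T.In 0) ≫ w₀ n ≫ (Θ n).inv = p ≫ Formal.modPowπ I (n + 1) F := hp n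
    rw [← h, ← Category.assoc, hw₀]
  have huniq : ∀ (K : X.Modules), Coh.IsCoh K → ∀ φ : K ⟶ F,
      (∀ n, φ ≫ Formal.modPowπ I (n + 1) F = 0) → φ = 0 := fun K hK φ hφ => by
    obtain ⟨φ₀, -, hu⟩ := S0798.result R I X K F hK hF (isProperOver_support hK) hFs 0
    exact (hu φ fun n => comp_zero.trans (hφ n).symm).trans (hu 0 fun n => comp_zero.trans zero_comp.symm).symm
  -- the uniformizer acts injectively
  haveI : Mono (Formal.smulMod R F t) := by
    let T' := Formal.smulMod R F t
    have hK : Coh.IsCoh (kernel T') := QC70.isCoh_kernel T' hF hF.1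
    have h0 : kernel.ι T' = 0 := huniq _ hK _ fun n => by
      have h1 : (kernel.ι T' ≫ Formal.modPowπ I (n + 1 + 1) F ≫ (Θ (n + 1)).hom) ≫
          Formal.smulMod R (T.Q (n + 1)) t = 0 := by
        rw [Category.assoc, Formal27.smulMod_comp, kernel.condition_assoc, zero_comp]
      have h2 := T.eq_zero_of_smul n _ h1
      rw [Category.assoc, Category.assoc, ← hΘ, ← Category.assoc (Formal.modPowπ I (n + 1 + 1) F),
        Formal.modPowπ_trans] at h2
      rw [← cancel_mono (Θ n).hom, zero_comp, Category.assoc]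
      exact h2
    exact Preadditive.mono_of_cancel_zero _ fun g hg => by
      rw [← kernel.lift_ι T' g hg, h0, comp_zero]
  -- the map is epi
  haveI hpe : Epi p := by
    let c := cokernel.π p
    have hC : Coh.IsCoh (cokernel p) := QC70.isCoh_cokernel p (T.coh 0).1 hF
    have hz : ∀ n, Formal.modPowπ I (n + 1) (cokernel p) = 0 := fun n => by
      have hce : Epi c := inferInstanceAs (Epi (cokernel.π p))
      have hs : Formal.smulFamily (I ^ (n + 1)) F ≫ c ≫ Formal.modPowπ I (n + 1) (cokernel p) = 0 :=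
        Formal27.smulFamily_comp_eq_zero _ fun a ha => by
          rw [← Formal27.smulMod_comp_assoc, Formal27.smulMod_modPowπ _ _ _ ha, comp_zero]
      let d : Formal.modPow I (n + 1) F ⟶ Formal.modPow I (n + 1) (cokernel p) := cokernel.desc _ _ hs
      have hd' : Formal.modPowπ I (n + 1) F ≫ d = c ≫ Formal.modPowπ I (n + 1) (cokernel p) := cokernel.π_desc _ _ _
      haveI : Epi (p ≫ Formal.modPowπ I (n + 1) F) := by
        rw [hp']
        infer_instance
      have hd : d = 0 := by
        rw [← cancel_epi (p ≫ Formal.modPowπ I (n + 1) F), comp_zero, Category.assoc, hd',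
          cokernel.condition_assoc, zero_comp]
      rw [← cancel_epi c, comp_zero, ← hd', hd, comp_zero]
    obtain ⟨φ₀, -, hu⟩ := S0798.result R I X _ _ hC hC (isProperOver_support hC) (isProperOver_support hC) 0
    have h1 : 𝟙 (cokernel p) = 0 :=
      (hu _ fun n => comp_zero.trans ((Category.id_comp _).trans (hz n)).symm).trans
        (hu 0 fun n => comp_zero.trans zero_comp.symm).symm
    exact Abelian.epi_of_cokernel_π_eq_zero _ (by rw [← Category.comp_id (cokernel.π p), h1, comp_zero])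
  refine ⟨F, p, hF, hpe, isFlatOver_of_mono_smulMod ht, ?_⟩
  -- the special fibre
  let adj := Scheme.Modules.pullbackPushforwardAdjunction i
  obtain ⟨wF, -, -⟩ := exact_unit _ i hsq ht rfl hF
  haveI := T.epi_u 0
  haveI := T.epi_π 0
  let u₀ := toPush i (T.π 0)
  have hu₀ : T.jj (0 + 1) ≫ u₀ = 0 := by
    rw [Tower.jj_succ, Category.assoc, Tower.jj_zero, Category.id_comp, (T.D 0).j_zero]
  let ψ : T.Q 0 ⟶ (Scheme.Modules.pushforward i).obj (T.G 0) := cokernel.desc _ u₀ hu₀
  let χ : F ⟶ (Scheme.Modules.pushforward i).obj (T.G 0) :=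
    Formal.modPowπ I (0 + 1) F ≫ (Θ 0).hom ≫ ψ
  have hχ : p ≫ χ = u₀ := by
    rw [reassoc_of% hp' 0, Iso.inv_hom_id_assoc]
    exact cokernel.π_desc _ _ _
  let e₀ : (Scheme.Modules.pullback i).obj F ⟶ T.G 0 := (adj.homEquiv _ _).symm χ
  have he₀ : (Scheme.Modules.pullback i).map p ≫ e₀ = T.π 0 := by
    rw [← adj.homEquiv_naturality_left_symm, hχ, Equiv.symm_apply_eq, Adjunction.homEquiv_unit]
  have hz : (T.D 0).j ≫ p ≫ adj.unit.app F = 0 := by
    have hs : Formal.smulFamily (I ^ (0 + 1)) F ≫ adj.unit.app F = 0 :=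
      Formal27.smulFamily_comp_eq_zero _ fun a ha => by
        rw [zero_add, pow_one] at ha
        obtain ⟨c, rfl⟩ := Ideal.mem_span_singleton'.1 ha
        rw [mul_comm, Formal27.smulMod_mul, Category.assoc]
        exact (congrArg (_ ≫ ·) wF).trans comp_zero
    let d : Formal.modPow I (0 + 1) F ⟶ (Scheme.Modules.pushforward i).obj ((Scheme.Modules.pullback i).obj F) :=
      cokernel.desc _ _ hs
    have e : Formal.modPowπ I (0 + 1) F ≫ d = adj.unit.app F := cokernel.π_desc _ _ _
    rw [← e, reassoc_of% hp' 0, ← Category.assoc]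
    have : (T.D 0).j ≫ T.q 0 = 0 := by
      have := T.jj_q 0
      rwa [Tower.jj_succ, Tower.jj_zero, Category.comp_id] at this
    rw [this, zero_comp]
  let φ := (T.exact_u 0).desc (p ≫ adj.unit.app F) hz
  have hφ : u₀ ≫ φ = p ≫ adj.unit.app F := (T.exact_u 0).g_desc _ hz
  haveI : IsIso (adj.counit.app (T.G 0)) := Dev46.isIso_counit i hG0
  let h' : T.G 0 ⟶ (Scheme.Modules.pullback i).obj F :=
    inv (adj.counit.app (T.G 0)) ≫ (adj.homEquiv _ _).symm φ
  have hh' : T.π 0 ≫ h' = (Scheme.Modules.pullback i).map p := by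
    have h1 : (Scheme.Modules.pullback i).map u₀ ≫ adj.counit.app (T.G 0) = T.π 0 := by
      have := (adj.homEquiv _ _).symm_apply_apply (T.π 0)
      rw [Adjunction.homEquiv_unit, Adjunction.homEquiv_counit] at this
      exact this
    rw [← h1, Category.assoc, IsIso.hom_inv_id_assoc, ← adj.homEquiv_naturality_left_symm, hφ,
      Equiv.symm_apply_eq, Adjunction.homEquiv_unit]
    exact (adj.unit.naturality p).symm ▸ rfl
  haveI : Epi ((Scheme.Modules.pullback i).map p) :=
    haveI := adj.leftAdjoint_preservesColimits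
    inferInstance
  refine ⟨⟨e₀, h', ?_, ?_⟩, he₀⟩
  · rw [← cancel_epi ((Scheme.Modules.pullback i).map p), ← Category.assoc, he₀, hh', Category.comp_id]
  · rw [← cancel_epi (T.π 0), ← Category.assoc, hh', he₀, Category.comp_id]

include hsq in
theorem Tower.exists_quotient {t : R} (ht : IsLocalRing.maximalIdeal R = Ideal.span {t})
    [IsAdicComplete (IsLocalRing.maximalIdeal R) R] (T : Tower i t) (hG0 : Coh.IsCoh (T.G 0)) :
    ∃ (F : X.Modules) (p : T.In 0 ⟶ F), Epi p ∧ FlatMod.IsFlatOver (X ↘ Spec (CommRingCat.of R)) F ∧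
      ∃ e : (Scheme.Modules.pullback i).obj F ≅ T.G 0, (Scheme.Modules.pullback i).map p ≫ e.hom = T.π 0 := by
  obtain ⟨F, p, -, h⟩ := T.exists_quotient_coh hsq ht hG0
  exact ⟨F, p, h⟩

end Groth.Agent.TF64
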