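import Groth.Agent.TF64.Decompose
import Groth.Agent.Cyc90.Gen
import Groth.Agent.QCqs72.Basic
import Mathlib.RingTheory.Ideal.MinimalPrime.Localization

/-!
Existence and uniqueness of torsion-free quotients.
-/

set_option autoImplicit false
universe u

open CategoryTheory CategoryTheory.Limits AlgebraicGeometry TopologicalSpace
open Groth.Agent.QC70 (stalkMapM germM)

namespace Groth.Agent.TF64

variable {X : Scheme.{u}}

/-- A closed set all of whose points specialize from generic points of `X` inside it: a union of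
components, possibly empty. -/
def GenClosed (Z : Set X) : Prop :=
  IsClosed Z ∧ ∀ x ∈ Z, ∃ η ∈ genericPoints X, η ∈ Z ∧ η ⤳ x

theorem genClosed_univ : GenClosed (Set.univ : Set X) :=
  ⟨isClosed_univ, fun x _ => let ⟨η, hη, h⟩ := exists_generic x; ⟨η, hη, trivial, h⟩⟩

theorem genClosed_sUnion {Z : Set X} {S : Set (Set X)} (hS : S ⊆ irreducibleComponents (X : Type u))
    (h : Z = ⋃₀ S) (hc : IsClosed Z) : GenClosed Z := ⟨hc, fun x hx => by
  subst h
  obtain ⟨C, hC, hxC⟩ := Set.mem_sUnion.1 hx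
  obtain ⟨η, hη, he⟩ := exists_generic_of_component (hS hC)
  exact ⟨η, hη, Set.mem_sUnion.2 ⟨C, hC, he.le (subset_closure rfl)⟩,
    specializes_iff_mem_closure.2 (he.ge hxC)⟩⟩

theorem genClosed_of_isSubcurve {Z : Set X} (hZ : VecSt.IsSubcurve X Z) (hc : IsClosed Z) : GenClosed Z := by
  obtain ⟨S, hS, -, h⟩ := hZ
  exact genClosed_sUnion hS h hc

theorem GenClosed.union {Y Z : Set X} (hY : GenClosed Y) (hZ : GenClosed Z) : GenClosed (Y ∪ Z) :=
  ⟨hY.1.union hZ.1, fun x hx => hx.elim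
    (fun h => let ⟨η, a, b, c⟩ := hY.2 x h; ⟨η, a, Or.inl b, c⟩)
    (fun h => let ⟨η, a, b, c⟩ := hZ.2 x h; ⟨η, a, Or.inr b, c⟩)⟩

theorem GenClosed.subset {Y Z : Set X} (hY : GenClosed Y) (hZ : IsClosed Z)
    (h : ∀ η ∈ genericPoints X, η ∈ Y → η ∈ Z) : Y ⊆ Z := fun x hx => by
  obtain ⟨η, hη, hηY, hs⟩ := hY.2 x hx
  exact closure_subset_of_mem hZ (h η hη hηY) (specializes_iff_mem_closure.1 hs)

theorem GenClosed.ext {Y Z : Set X} (hY : GenClosed Y) (hZ : GenClosed Z)
    (h : ∀ η ∈ genericPoints X, (η ∈ Y ↔ η ∈ Z)) : Y = Z :=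
  (hY.subset hZ.1 fun η hη => (h η hη).1).antisymm (hZ.subset hY.1 fun η hη => (h η hη).2)

theorem finite_genericPoints [IsNoetherian X] : (genericPoints X).Finite :=
  Set.Finite.of_finite_image
    ((NoetherianSpace.finite_irreducibleComponents (α := X)).subset
      (by rintro C ⟨η, hη, rfl⟩; exact hη : (fun η : X => closure ({η} : Set X)) '' genericPoints X ⊆ _))
    fun a ha b hb hab => (eq_of_specializes_generic ha
      (specializes_iff_mem_closure.2 (hab.le (subset_closure rfl)))).symm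

/-- The open set missing the components whose generic points are outside `Z`. -/
theorem exists_open_generic [IsNoetherian X] (Z : Set X) :
    ∃ O : X.Opens, (∀ η ∈ genericPoints X, (η ∈ O ↔ η ∈ Z)) ∧
      ∀ x ∈ O, ∀ η ∈ genericPoints X, η ⤳ x → η ∈ Z := by
  refine ⟨⟨(⋃ η ∈ genericPoints X \ Z, closure ({η} : Set X))ᶜ,
    ((finite_genericPoints.subset Set.sdiff_subset).isClosed_biUnion fun _ _ => isClosed_closure).isOpen_compl⟩,
    fun η hη => ⟨fun h => by_contra fun h' => h (Set.mem_biUnion ⟨hη, h'⟩ (subset_closure rfl)),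
      fun hZ h => ?_⟩, fun x hx η hη hs => by_contra fun h' =>
      hx (Set.mem_biUnion ⟨hη, h'⟩ (specializes_iff_mem_closure.1 hs))⟩
  obtain ⟨η', hη', h⟩ := Set.mem_iUnion₂.1 h
  exact hη'.2 (eq_of_specializes_generic hη (specializes_iff_mem_closure.2 h) ▸ hZ)

/-- Regular elements of a local ring are units at the generic points. -/
theorem isUnit_stalkSpecializes [AlgebraicGeometry.IsReduced X] {x η : X} (hη : η ∈ genericPoints X)
    (hs : η ⤳ x) {r : X.presheaf.stalk x} (hr : IsRegular r) :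
    IsUnit ((X.presheaf.stalkSpecializes hs).hom r) := by
  letI := (X.presheaf.stalkSpecializes hs).hom.toAlgebra
  haveI := Cyc90.isLocalization_genPrime hs
  refine (IsLocalization.AtPrime.isUnit_to_map_iff (X.presheaf.stalk η) (Cyc90.genPrime hs).asIdeal r).2 ?_
  have hmin : (Cyc90.genPrime hs).asIdeal ∈ minimalPrimes (X.presheaf.stalk x) := by
    refine ⟨⟨(Cyc90.genPrime hs).isPrime, bot_le⟩, fun q hq hle => ?_⟩
    have h1 : Cyc90.genPrime (Cyc90.fromSpecStalk_specializes ⟨q, hq.1⟩) = (⟨q, hq.1⟩ : PrimeSpectrum _) :=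
      Cyc90.genPrime_fromSpecStalk _
    have h2 : (X.fromSpecStalk x).base ⟨q, hq.1⟩ ⤳ η :=
      (Cyc90.genPrime_le_iff (Cyc90.fromSpecStalk_specializes ⟨q, hq.1⟩) hs).1 (by rw [h1]; exact hle)
    have h3 := (Cyc90.genPrime_eq_iff (Cyc90.fromSpecStalk_specializes ⟨q, hq.1⟩) hs).2
      (eq_of_specializes_generic hη h2)
    rw [h1] at h3
    exact (congrArg PrimeSpectrum.asIdeal h3).ge
  exact Set.disjoint_right.1 (Ideal.disjoint_nonZeroDivisors_of_mem_minimalPrimes hmin)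
    (isRegular_iff_mem_nonZeroDivisors.1 hr)

/-- A module whose sections are detected at the generic points is torsion-free. -/
theorem isTorsionFree_of_detect [IsNoetherian X] [AlgebraicGeometry.IsReduced X] {G : X.Modules}
    (hdet : ∀ (W : X.Opens) (s : Γ(G, W)),
      (∀ η ∈ genericPoints X, ∀ h : η ∈ W, germM G W η h s = 0) → s = 0) :
    TorSh.IsTorsionFree G := fun x => ⟨fun r hr => by
  refine (injective_iff_map_eq_zero (DistribMulAction.toAddMonoidHom (G.presheaf.stalk x) r)).2 fun e he => ?_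
  change r • e = 0 at he
  obtain ⟨W₁, hx₁, s, rfl⟩ := QC70.germM_exist e
  obtain ⟨W₂, hx₂, a, rfl⟩ := TopCat.Presheaf.exists_germ_eq X.presheaf r
  have hx : x ∈ W₁ ⊓ W₂ := ⟨hx₁, hx₂⟩
  rw [← QC70.germM_res (inf_le_left : W₁ ⊓ W₂ ≤ W₁) hx s, ← QC70.germ_resO (inf_le_right : W₁ ⊓ W₂ ≤ W₂) hx a,
    ← QC70.germM_smul] at he
  obtain ⟨W, hW, hxW, h0⟩ := QC70.germM_eq_zero he
  obtain ⟨O', hO', hxO'⟩ : ∃ O' : X.Opens, (∀ η ∈ genericPoints X, η ∈ O' → η ⤳ x) ∧ x ∈ O' := by
    refine ⟨⟨(⋃ η ∈ {η ∈ genericPoints X | ¬ η ⤳ x}, closure ({η} : Set X))ᶜ,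
      ((finite_genericPoints.subset fun η h => h.1).isClosed_biUnion fun _ _ => isClosed_closure).isOpen_compl⟩,
      fun η hη h => by_contra fun h' => h (Set.mem_biUnion ⟨hη, h'⟩ (subset_closure rfl)), fun h => ?_⟩
    obtain ⟨η, hη, h⟩ := Set.mem_iUnion₂.1 h
    exact hη.2 (specializes_iff_mem_closure.2 h)
  have hV : x ∈ W ⊓ O' := ⟨hxW, hxO'⟩
  have hle : W ⊓ O' ≤ W₁ := inf_le_left.trans (hW.trans inf_le_left)
  rw [← QC70.germM_res hle hV s]
  refine (congrArg (germM G (W ⊓ O') x hV) (hdet _ _ fun η hη hm => ?_)).trans (QC70.germM_zero hV)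
  have h1 := congrArg (germM G W η hm.1) h0
  rw [QC70.germM_res, QC70.germM_smul, QC70.germM_res, QC70.germ_resO, QC70.germM_zero] at h1
  rw [QC70.germM_res]
  have hu : IsUnit (X.presheaf.germ W₂ η (hW hm.1).2 a) := by
    rw [← TopCat.Presheaf.germ_stalkSpecializes_apply X.presheaf hx₂ (hO' η hη hm.2)]
    exact isUnit_stalkSpecializes hη _ hr
  exact hu.smul_eq_zero.1 h1⟩

variable [IsNoetherian X] [AlgebraicGeometry.IsReduced X]

theorem exists_quot {M : X.Modules} (hMc : Coh.IsCoh M) (hMt : TorSh.IsTorsionFree M)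
    (hMr : TFOne.IsRkOne X M) {Z : Set X} (hZ : GenClosed Z) : ∃ (G : X.Modules) (π : M ⟶ G), TFOne.IsQuotOn X M Z G π := by
  obtain ⟨O, hO, -⟩ := exists_open_generic Z
  let T := (Scheme.Modules.restrictFunctor O.ι ⋙ Scheme.Modules.pushforward O.ι).obj M
  let φ : M ⟶ T := (Scheme.Modules.restrictAdjunction O.ι).unit.app M
  have hTq : Coh.IsQCoh T := by
    haveI := hMc.1
    haveI : (M.restrict O.ι).IsQuasicoherent := inferInstance
    exact QCqs72.isQuasicoherent_pushforward (M := M.restrict O.ι) O.ι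
  have happ : ∀ (W : X.Opens) (s : Γ(M, W)), φ.app W s = (0 : Γ(T, W)) ↔
      QC70.res M (O.ι.image_preimage_le W) s = 0 := fun W s => by
    simp only [φ, Scheme.Modules.restrictAdjunction_unit_app_app]
    rfl
  let π := cokernel.π (kernel.ι φ)
  let ι : cokernel (kernel.ι φ) ⟶ T := cokernel.desc _ φ (kernel.condition φ)
  have hι : π ≫ ι = φ := cokernel.π_desc _ _ _
  haveI : Mono ι := inferInstanceAs (Mono (Abelian.factorThruCoimage φ))
  have hGc : Coh.IsCoh (cokernel (kernel.ι φ)) :=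
    QC70.isCoh_cokernel _ (QC70.isCoh_kernel φ hMc hTq).1 hMc
  -- sections are detected at the generic points
  have hdet : ∀ (W : X.Opens) (y : Γ(cokernel (kernel.ι φ), W)),
      (∀ η ∈ genericPoints X, ∀ h : η ∈ W, germM _ W η h y = 0) → y = 0 := fun W y hy => by
    refine QC70.app_injective_of_mono ι W ?_
    rw [map_zero]
    let W' : X.Opens := O.ι ''ᵁ (O.ι ⁻¹ᵁ W)
    let m : Γ(M, W') := ι.app W y
    change m = (0 : Γ(M, W'))
    refine Ega11.TorFreeAss.eq_zero_of_germ M hMc.1 hMt m fun z hz hf => ?_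
    have hz' : z ∈ W ∧ z ∈ O := ⟨O.ι.image_preimage_le W hz, by
      obtain ⟨w, -, rfl⟩ := hz
      exact w.2⟩
    obtain ⟨W'', hW'', hzW, h0⟩ := QC70.germM_eq_zero (hy z (isField_mem_genericPoints hf) hz'.1)
    have h1 : QC70.res T hW'' (ι.app W y) = 0 := by rw [← QC70.app_res, h0, map_zero]
    have hz2 : z ∈ O.ι ''ᵁ (O.ι ⁻¹ᵁ W'') := ⟨⟨z, hz'.2⟩, hzW, rfl⟩
    have h2 : QC70.res M (O.ι.image_mono (O.ι.preimage_mono hW'')) m = 0 := h1
    have h3 := congrArg (germM M _ z hz2) h2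
    rw [QC70.germM_res, QC70.germM_zero] at h3
    exact h3
  have htG : TorSh.IsTorsionFree (cokernel (kernel.ι φ)) := isTorsionFree_of_detect hdet
  have hbij : ∀ η ∈ genericPoints X, η ∈ Z → Function.Injective (stalkMapM π η) := fun η hη hηZ => by
    refine (injective_iff_map_eq_zero ((TopCat.Presheaf.stalkFunctor _ η).map π.mapPresheaf).hom).2 fun e he => ?_
    change stalkMapM π η e = 0 at he
    obtain ⟨W, hW, s, rfl⟩ := QC70.germM_exist e
    have h0 : germM T W η hW (φ.app W s) = 0 := by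
      rw [← QC70.stalkMapM_germ φ hW s, ← hι, stalkMapM_comp, he, map0]
    obtain ⟨W'', hW'', hzW, h1⟩ := QC70.germM_eq_zero h0
    rw [← QC70.app_res, happ] at h1
    have hz2 : η ∈ O.ι ''ᵁ (O.ι ⁻¹ᵁ W'') := ⟨⟨η, (hO η hη).2 hηZ⟩, hzW, rfl⟩
    have h3 := congrArg (germM M _ η hz2) h1
    rw [QC70.germM_res, QC70.germM_res, QC70.germM_zero] at h3
    exact h3
  have hzero : ∀ η ∈ genericPoints X, η ∉ Z → ZeroAt π η := fun η hη hηZ e => by
    refine QC70.injective_stalkMapM_of_mono ι η ?_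
    rw [map0, ← stalkMapM_comp, hι]
    obtain ⟨W, hW, s, rfl⟩ := QC70.germM_exist e
    obtain ⟨O₁, hO₁, hO₁'⟩ := exists_open_generic ({η} : Set X)
    have hV : η ∈ W ⊓ O₁ := ⟨hW, (hO₁ η hη).2 rfl⟩
    rw [← QC70.germM_res (inf_le_left : W ⊓ O₁ ≤ W) hV s, QC70.stalkMapM_germ]
    refine (congrArg (germM T _ η hV) ((happ _ _).2 ?_)).trans (QC70.germM_zero hV)
    refine QC70.section_ext M _ 0 fun p hp => False.elim ?_
    obtain ⟨w, hw, rfl⟩ := hp
    obtain ⟨η', hη', hs⟩ := exists_generic (O.ι w)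
    have e1 : η' = η := hO₁' (O.ι w) hw.2 η' hη' hs
    subst e1
    exact hηZ ((hO η' hη').1 (hs.mem_open O.2 w.2))
  haveI := hGc.2
  refine ⟨cokernel (kernel.ι φ), π, inferInstance, hGc, htG, Set.Subset.antisymm (fun x hx => by_contra fun hxZ => hx ?_) fun x hx => ?_⟩
  · refine subsingleton_of_forall_eq 0 fun y => ?_
    obtain ⟨m, rfl⟩ := QC70.surjective_stalkMapM_of_epi π x y
    exact zeroAt_of_open hGc.1 htG π ⟨Zᶜ, hZ.1.isOpen_compl⟩ (fun η hη h => hzero η hη h) hxZ m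
  · obtain ⟨η, hη, hηZ, hs⟩ := hZ.2 x hx
    refine (QC70.isClosed_support (cokernel (kernel.ι φ))).closure_subset_iff.2
      (Set.singleton_subset_iff.2 fun hsub => ?_) (specializes_iff_mem_closure.1 hs)
    have := nontrivial_stalk hMr hη
    obtain ⟨m, hm⟩ := exists_ne (0 : M.presheaf.stalk η)
    exact hm (hbij η hη hηZ ((Subsingleton.elim _ _).trans (map0 π η).symm))

/-- Torsion-free quotients on the same set are isomorphic. -/
theorem quot_unique {M G G' : X.Modules} {Z : Set X} {π : M ⟶ G} {π' : M ⟶ G'} (hMr : TFOne.IsRkOne X M)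
    (h : TFOne.IsQuotOn X M Z G π) (h' : TFOne.IsQuotOn X M Z G' π') : ∃ e : G ≅ G', π ≫ e.hom = π' := by
  obtain ⟨a, ha⟩ := exists_restrict h hMr h' subset_rfl
  obtain ⟨b, hb⟩ := exists_restrict h' hMr h subset_rfl
  have := h.1
  have := h'.1
  exact ⟨⟨a, b, by rw [← cancel_epi π, ← Category.assoc, ha, hb, Category.comp_id],
    by rw [← cancel_epi π', ← Category.assoc, hb, ha, Category.comp_id]⟩, ha⟩

end Groth.Agent.TF64
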