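import Groth.Agent.TF64.Push
import Groth.Agent.TF64.Euler
import Groth.Agent.TF64.Quotient
import Groth.Agent.VarMods75.Additive
import Groth.Agent.KRR40.ProjFormulaVB
import Groth.Agent.Curves2.Ample.ClosedPush
import Groth.Agent.Crv77.DivLe

/-!
The degree of a bundle on the subcurves of a reduced curve is additive in the components.
-/

set_option autoImplicit false
universe u

open CategoryTheory CategoryTheory.Limits AlgebraicGeometry TopologicalSpace
open Groth.Agent.QC70 (stalkMapM germM)

namespace Groth.Agent.TF64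

variable {X : Scheme.{u}} [AlgebraicGeometry.IsReduced X]

theorem len_structure {η : X} (hη : η ∈ genericPoints X) : Snapper75.len (Coh.structureModule X) η = 1 := by
  letI := (isField_stalk hη).toField
  rw [Snapper75.len, (QC70.unitStalkEquiv η).symm.length_eq, Module.length_eq_one]
  simp

theorem len_push_structure [IsLocallyNoetherian X] {Z : Scheme.{u}} [AlgebraicGeometry.IsReduced Z] (i : Z ⟶ X)
    [IsClosedImmersion i] {η : X} (hη : η ∈ genericPoints X) :
    (η ∈ Set.range i → Snapper75.len ((Scheme.Modules.pushforward i).obj (Coh.structureModule Z)) η = 1) ∧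
    (η ∉ Set.range i → Snapper75.len ((Scheme.Modules.pushforward i).obj (Coh.structureModule Z)) η = 0) := by
  haveI : IsLocallyNoetherian Z := LocallyOfFiniteType.isLocallyNoetherian i
  constructor
  · intro h
    obtain ⟨ζ, rfl⟩ := h
    have hζ : ζ ∈ genericPoints Z := Mero90.MaxPt.closure_mem fun w hw =>
      i.isClosedEmbedding.injective (eq_of_specializes_generic hη (hw.map i.continuous))
    letI := (isField_stalk hη).toField
    let E := QC70.unitStalkEquiv (X := Z) ζ
    let one : ((Scheme.Modules.pushforward i).obj (Coh.structureModule Z)).presheaf.stalk (i ζ) :=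
      Function.surjInv (QC70.bijective_pushStalk i _ ζ).2 (E 1)
    have hone : QC70.pushStalk i _ ζ one = E 1 := Function.surjInv_eq _ _
    have hL : ∀ r : X.presheaf.stalk (i ζ), QC70.pushStalk i _ ζ (r • one) = E (i.stalkMap ζ r) := fun r => by
      rw [QC70.pushStalk_smul, hone, ← map_smul, smul_eq_mul, mul_one]
    have hbij : Function.Bijective (LinearMap.toSpanSingleton (X.presheaf.stalk (i ζ)) _ one) :=
      ⟨fun a b hab => (i.stalkMap ζ).hom.injective (E.injective
        ((hL a).symm.trans ((congrArg (QC70.pushStalk i _ ζ) hab).trans (hL b)))),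
      fun y => by
        obtain ⟨r, hr⟩ := i.stalkMap_surjective ζ (E.symm (QC70.pushStalk i _ ζ y))
        exact ⟨r, (QC70.bijective_pushStalk i _ ζ).1 ((hL r).trans ((congrArg E hr).trans (E.apply_symm_apply _)))⟩⟩
    rw [Snapper75.len, ← (LinearEquiv.ofBijective _ hbij).length_eq, Module.length_eq_one]
    simp
  · intro h
    exact Snapper75.len_eq_zero (subsingleton_stalk_iff.1 (subsingleton_push _ Crv77.isCoh_structureModule h))

variable {k : Type u} [Field k] [X.Over (Spec (CommRingCat.of k))]
  [IsProper (X ↘ Spec (CommRingCat.of k))]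

/-- Degrees on subcurves are sums of contributions of the generic points. -/
theorem exists_deg_weights (hpure : ∀ C ∈ irreducibleComponents (X : Type u), topologicalKrullDim C = 1)
    {E : X.Modules} {r : ℕ} (hE : FlatMod.IsFinLocFreeOfRank r E) :
    ∃ (T : Finset X) (c : X → ℚ), (∀ η : X, η ∈ T ↔ η ∈ genericPoints X) ∧
      ((Curv2.deg k X E r : ℤ) : ℚ) = ∑ η ∈ T, c η ∧
      (∀ {Z : Scheme.{u}} [AlgebraicGeometry.IsReduced Z] [Z.Over (Spec (CommRingCat.of k))]
        (i : Z ⟶ X) [IsClosedImmersion i],
        i ≫ (X ↘ Spec (CommRingCat.of k)) = Z ↘ Spec (CommRingCat.of k) →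
          ∀ [DecidablePred (· ∈ Set.range i)],
          (Curv2.deg k Z ((Scheme.Modules.pullback i).obj E) r : ℚ) = ∑ η ∈ T.filter (· ∈ Set.range i), c η) ∧
      ∀ (Z : Set X) (hZ : IsClosed Z) (G : X.Modules), ∀ [DecidablePred (· ∈ Z)],
        (TFOne.rBeta X k (X ↘ Spec (CommRingCat.of k)) Z hZ E r G : ℚ) =
          r * (Curv2.euler k X G : ℚ) + ∑ η ∈ T.filter (· ∈ Z), c η := by
  classical
  have := Crv77.isNoetherian_of_proper k X
  have hdim := Crv77.dim_le_one_of_components hpure
  obtain ⟨T, c, hT, hform⟩ := VarMods75.exists_euler_tensor_formula k hdim hE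
  have hT' : ∀ η : X, η ∈ T ↔ η ∈ genericPoints X := fun η => by
    rw [hT]
    refine ⟨fun h => ?_, fun h => hpure _ h⟩
    obtain ⟨w, hw, hs⟩ := exists_generic η
    have h' : w = η := Snapper75.eq_of_dim_eq (d := 1) (by exact_mod_cast h) (by exact_mod_cast (hpure _ hw).le) hs
    exact h' ▸ hw
  have hclosed : ∀ {Z : Scheme.{u}} [AlgebraicGeometry.IsReduced Z] [Z.Over (Spec (CommRingCat.of k))]
      (i : Z ⟶ X) [IsClosedImmersion i],
      i ≫ (X ↘ Spec (CommRingCat.of k)) = Z ↘ Spec (CommRingCat.of k) →
        ∀ [DecidablePred (· ∈ Set.range i)],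
        (Curv2.deg k Z ((Scheme.Modules.pullback i).obj E) r : ℚ) = ∑ η ∈ T.filter (· ∈ Set.range i), c η := by
    intro Z _ _ i _ hi _
    have : IsLocallyNoetherian Z := LocallyOfFiniteType.isLocallyNoetherian i
    have hloc := VarMods75.isFinLocFree hE
    have hEc := VarMods75.isCoh hE
    have h := hform _ (QC70.isCoh_pushforward i _ (Crv77.isCoh_structureModule (X := Z)))
    rw [Crv77.euler_congr (k := k) (KRR40.projIsoVB i (Coh.structureModule _) hloc ≪≫
        (Scheme.Modules.pushforward i).mapIso (EGA73.tensUnitLeft _)),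
      Curves2.Ample.euler_push k i hi _ (Dev46.isCoh_pullback i hEc),
      Curves2.Ample.euler_push k i hi _ Crv77.isCoh_structureModule] at h
    rw [Finset.sum_congr rfl (fun η hη => show _ = if η ∈ Set.range i then c η else 0 by
        split_ifs with hz
        · rw [(len_push_structure i ((hT' η).1 hη)).1 hz, one_mul]
        · rw [(len_push_structure i ((hT' η).1 hη)).2 hz, zero_mul]), ← Finset.sum_filter] at h
    rw [← h]
    simp only [Curv2.deg]
    push_cast
    rfl
  refine ⟨T, c, hT', ?_, hclosed, fun Z hZ G _ => ?_⟩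
  · have h := hform _ (Crv77.isCoh_structureModule (X := X))
    rw [Finset.sum_congr rfl (fun η hη => by rw [len_structure ((hT' η).1 hη), one_mul]),
      Crv77.euler_congr (k := k) (EGA73.tensUnitLeft (X := X) E)] at h
    rw [← h]
    simp [Curv2.deg]
  letI : (VecSt.subsch X Z hZ).Over (Spec (CommRingCat.of k)) :=
    ⟨VecSt.subschι X Z hZ ≫ (X ↘ Spec (CommRingCat.of k))⟩
  haveI : AlgebraicGeometry.IsReduced (VecSt.subsch X Z hZ) :=
    SchBasics.isReduced_vanishingIdeal_subscheme _
  have h := hclosed (VecSt.subschι X Z hZ) rfl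
  rw [Finset.filter_congr (q := (· ∈ Z)) (fun η _ => by rw [range_subschι])] at h
  rw [← h]
  simp only [TFOne.rBeta]
  push_cast
  rfl

end Groth.Agent.TF64
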