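import Groth.Agent.TF64.UnitExact
import Groth.Agent.TF64.Quotient
import Groth.Agent.TF64.Push
import Groth.Agent.QC70.GenIso

/-!
The restriction to the special fibre of the modification of a flat family along a subcurve.
-/

set_option autoImplicit false
universe u

open CategoryTheory CategoryTheory.Limits AlgebraicGeometry TopologicalSpace
open Groth.Agent.QC70 (stalkMapM germM)

namespace Groth.Agent.TF64

theorem exact_of_stalk {X : Scheme.{u}} (S : ShortComplex X.Modules)
    (h : ∀ (x : X) (e : S.X₂.presheaf.stalk x), stalkMapM S.g x e = 0 → ∃ d, stalkMapM S.f x d = e) :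
    S.Exact := by
  rw [S.exact_iff_epi_kernel_lift]
  refine QC70.epi_of_surjective_stalkMapM _ fun x z => ?_
  obtain ⟨d, hd⟩ := h x (stalkMapM (kernel.ι S.g) x z) (by
    rw [← stalkMapM_comp, kernel.condition, stalkMapM_zero])
  refine ⟨d, QC70.injective_stalkMapM_of_mono (kernel.ι S.g) x ?_⟩
  rw [← stalkMapM_comp, kernel.lift_ι, hd]

variable {R : Type u} [CommRing R] [IsDomain R] [IsDiscreteValuationRing R] {X : Scheme.{u}}
  [X.Over (Spec (CommRingCat.of R))]

/-- The scalars in the local rings. -/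
noncomputable def scalStalk (x : X) (t : R) : X.presheaf.stalk x :=
  X.presheaf.germ ⊤ x trivial (Coh.toGlobal (X ↘ Spec (CommRingCat.of R)) t)

theorem stalkMapM_smulModR (M : X.Modules) (t : R) (x : X) (e : M.presheaf.stalk x) :
    stalkMapM (Formal.smulMod R M t) x e = scalStalk x t • e := by
  obtain ⟨W, hW, s, rfl⟩ := QC70.germM_exist e
  rw [QC70.stalkMapM_germ]
  have h : (Formal.smulMod R M t).app W s =
      QC70.resO X (le_top : W ≤ ⊤) (show Γ(X, ⊤) from Coh.toGlobal (X ↘ Spec (CommRingCat.of R)) t) • s := rfl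
  rw [h, QC70.germM_smul, QC70.germ_resO]
  rfl

theorem mono_smulMod_of_flat {I : X.Modules} (hIf : FlatMod.IsFlatOver (X ↘ Spec (CommRingCat.of R)) I)
    {t : R} (ht : t ≠ 0) : Mono (Formal.smulMod R I t) := by
  refine QC70.mono_of_injective_stalkMapM _ fun x => ?_
  let q := X ↘ Spec (CommRingCat.of R)
  let S := Spec (CommRingCat.of R)
  letI := FlatMod.moduleStalkOver q I x
  haveI : Module.Flat (S.presheaf.stalk (q x)) (I.presheaf.stalk x) := hIf x
  let a : S.presheaf.stalk (q x) := S.presheaf.germ ⊤ (q x) trivial ((Scheme.ΓSpecIso (CommRingCat.of R)).inv t)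
  have ha : a ≠ 0 := fun h => ht (by
    have h1 := AlgebraicGeometry.germ_injective_of_isIntegral (X := S) (U := (⊤ : S.Opens)) (q x) trivial (h.trans (map_zero _).symm)
    have h2 := congrArg (Scheme.ΓSpecIso (CommRingCat.of R)).hom h1
    simpa using h2)
  have hsm : ∀ e : I.presheaf.stalk x, stalkMapM (Formal.smulMod R I t) x e = a • e := fun e => by
    rw [stalkMapM_smulModR]
    change scalStalk x t • e = q.stalkMap x a • e
    congr 1
    exact (Scheme.Hom.germ_stalkMap_apply q (⊤ : S.Opens) x trivial _).symm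
  intro e e' h
  rw [hsm, hsm] at h
  exact Module.Flat.isSMulRegular_of_isRegular (R := S.presheaf.stalk (q x))
    (M := I.presheaf.stalk x) (isRegular_iff_ne_zero.2 ha) h

variable {Xs : Scheme.{u}} {i : Xs ⟶ X} {qs : Xs ⟶ Spec (CommRingCat.of (IsLocalRing.ResidueField R))}

/-- The data of a modification, with the maps it comes from. -/
theorem exists_modification_maps [IsProper (X ↘ Spec (CommRingCat.of R))]
    (hsq : IsPullback i qs (X ↘ Spec (CommRingCat.of R)) (Spec.map (CommRingCat.ofHom (IsLocalRing.residue R))))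
    [AlgebraicGeometry.IsReduced Xs] {I : X.Modules} (hIc : Coh.IsCoh I)
    (hIf : FlatMod.IsFlatOver (X ↘ Spec (CommRingCat.of R)) I)
    (hM : TFOne.IsTF1 Xs ((Scheme.Modules.pullback i).obj I)) {Y : Set Xs} {GY : Xs.Modules}
    {πY : (Scheme.Modules.pullback i).obj I ⟶ GY}
    (hGY : TFOne.IsQuotOn Xs ((Scheme.Modules.pullback i).obj I) Y GY πY) {t : R}
    (ht : IsLocalRing.maximalIdeal R = Ideal.span {t}) :
    let u := (Scheme.Modules.pullbackPushforwardAdjunction i).unit.app I ≫ (Scheme.Modules.pushforward i).map πY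
    AlgebraicGeometry.IsNoetherian Xs ∧ TFOne.IsTF1 Xs ((Scheme.Modules.pullback i).obj (kernel u)) ∧
      ∃ τ : I ⟶ kernel u, τ ≫ kernel.ι u = Formal.smulMod R I t ∧
      ∃ (α : GY ⟶ (Scheme.Modules.pullback i).obj (kernel u))
        (β : (Scheme.Modules.pullback i).obj (kernel u) ⟶ kernel πY) (w : α ≫ β = 0),
        (ShortComplex.mk α β w).ShortExact ∧ πY ≫ α = (Scheme.Modules.pullback i).map τ ∧
          β ≫ kernel.ι πY = (Scheme.Modules.pullback i).map (kernel.ι u) := by
  intro u
  have ht0 : t ≠ 0 := fun h => IsDiscreteValuationRing.not_a_field R (by simp [ht, h])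
  have := isClosedImmersion_special _ i hsq
  have : IsLocallyNoetherian X := LocallyOfFiniteType.isLocallyNoetherian (X ↘ Spec (CommRingCat.of R))
  have : CompactSpace X := QuasiCompact.compactSpace_of_compactSpace (X ↘ Spec (CommRingCat.of R))
  have : IsLocallyNoetherian Xs := LocallyOfFiniteType.isLocallyNoetherian i
  have : CompactSpace Xs := QuasiCompact.compactSpace_of_compactSpace i
  have hN : AlgebraicGeometry.IsNoetherian Xs := {}
  obtain ⟨hMc, htM, hMr⟩ := hM
  let F := Scheme.Modules.pullback i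
  let P := Scheme.Modules.pushforward i
  let adj := Scheme.Modules.pullbackPushforwardAdjunction i
  let IY := kernel u
  let j : IY ⟶ I := kernel.ι u
  have hPGc : Coh.IsCoh (P.obj GY) := QC70.isCoh_pushforward i GY hGY.2.1
  have hIYc : Coh.IsCoh IY := QC70.isCoh_kernel u hIc hPGc.1
  have hNc : Coh.IsCoh (F.obj IY) := Dev46.isCoh_pullback i hIYc
  obtain ⟨wI, hexI, hepiI⟩ := exact_unit _ i hsq ht rfl hIc
  obtain ⟨wY, hexY, hepiY⟩ := exact_unit _ i hsq ht rfl hIYc
  haveI := mono_smulMod_of_flat hIf ht0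
  have hTu : Formal.smulMod R I t ≫ u = 0 := by
    simp only [u, ← Category.assoc]
    rw [wI, zero_comp]
  let τ : I ⟶ IY := kernel.lift u _ hTu
  have hτj : τ ≫ j = Formal.smulMod R I t := kernel.lift_ι _ _ _
  haveI : Mono τ := mono_of_mono_fac hτj
  have hjτ : j ≫ τ = Formal.smulMod R IY t := by
    rw [← cancel_mono j, Category.assoc, hτj, Formal27.smulMod_comp]
  have hFt : F.map (Formal.smulMod R IY t) = 0 := by
    have h := (adj.homEquiv _ _).injective (a₁ := F.map (Formal.smulMod R IY t)) (a₂ := 0) (by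
      rw [Adjunction.homEquiv_unit, Adjunction.homEquiv_unit, Functor.map_zero, comp_zero]
      exact (adj.unit.naturality (Formal.smulMod R IY t)).symm.trans wY)
    exact h
  have hjπ : F.map j ≫ πY = 0 := by
    refine (adj.homEquiv _ _).injective ?_
    rw [Adjunction.homEquiv_unit, Adjunction.homEquiv_unit, Functor.map_comp, ← Category.assoc]
    rw [Functor.map_zero, comp_zero]
    exact (congrArg (· ≫ P.map πY) (adj.unit.naturality j).symm).trans
      ((Category.assoc _ _ _).trans (kernel.condition u))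
  let β : F.obj IY ⟶ kernel πY := kernel.lift πY (F.map j) hjπ
  have hβ : β ≫ kernel.ι πY = F.map j := kernel.lift_ι _ _ _
  -- lifting elements of the stalks
  have lift : ∀ {A : X.Modules}, Epi (adj.unit.app A) → ∀ (z : Xs) (n : (F.obj A).presheaf.stalk z),
      ∃ a : A.presheaf.stalk (i z), QC70.pushStalk i _ z (stalkMapM (adj.unit.app A) (i z) a) = n := by
    intro A hA z n
    obtain ⟨m, rfl⟩ := (QC70.bijective_pushStalk i _ z).2 n
    obtain ⟨a, rfl⟩ := QC70.surjective_stalkMapM_of_epi (adj.unit.app A) (i z) m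
    exact ⟨a, rfl⟩
  have nat : ∀ {A B : X.Modules} (g : A ⟶ B) (z : Xs) (a : A.presheaf.stalk (i z)),
      stalkMapM (F.map g) z (QC70.pushStalk i _ z (stalkMapM (adj.unit.app A) (i z) a)) =
        QC70.pushStalk i _ z (stalkMapM (adj.unit.app B) (i z) (stalkMapM g (i z) a)) := by
    intro A B g z a
    rw [← QC70.pushStalk_stalkMapM, ← stalkMapM_comp, ← stalkMapM_comp]
    exact congrArg (fun φ : A ⟶ P.obj (F.obj B) => QC70.pushStalk i _ z (stalkMapM φ (i z) a))
      (adj.unit.naturality g).symm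
  have hsurjβ : ∀ z, Function.Surjective (stalkMapM β z) := fun z c => by
    obtain ⟨e, he⟩ := lift hepiI z (stalkMapM (kernel.ι πY) z c)
    have hu0 : stalkMapM u (i z) e = 0 := by
      refine (QC70.bijective_pushStalk i GY z).1 ?_
      rw [map_zero, stalkMapM_comp, QC70.pushStalk_stalkMapM, he, ← stalkMapM_comp, kernel.condition,
        stalkMapM_zero]
    obtain ⟨y, hy⟩ := QC70.stalkMapM_exact (ShortComplex.mk j u (kernel.condition u))
      (ShortComplex.exact_of_f_is_kernel _ (kernelIsKernel u)) (i z) e hu0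
    refine ⟨QC70.pushStalk i _ z (stalkMapM (adj.unit.app IY) (i z) y),
      QC70.injective_stalkMapM_of_mono (kernel.ι πY) z ?_⟩
    rw [← stalkMapM_comp, hβ, nat, ← he]
    exact congrArg (fun m => QC70.pushStalk i _ z (stalkMapM (adj.unit.app I) (i z) m)) hy
  haveI : Epi β := QC70.epi_of_surjective_stalkMapM β hsurjβ
  have hjt : F.map j ≫ F.map τ = 0 := by rw [← F.map_comp, hjτ, hFt]
  have hkτ : kernel.ι πY ≫ F.map τ = 0 := by
    rw [← cancel_epi β, ← Category.assoc, hβ, hjt, comp_zero]
  haveI := hGY.1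
  let α : GY ⟶ F.obj IY := Abelian.epiDesc πY (F.map τ) hkτ
  have hα : πY ≫ α = F.map τ := Abelian.comp_epiDesc _ _ _
  have hαβ : α ≫ β = 0 := by
    rw [← cancel_epi πY, ← Category.assoc, hα, comp_zero, ← cancel_mono (kernel.ι πY), zero_comp,
      Category.assoc, hβ, ← F.map_comp, hτj]
    refine (adj.homEquiv _ _).injective ?_
    rw [Adjunction.homEquiv_unit, Adjunction.homEquiv_unit, Functor.map_zero, comp_zero]
    exact (adj.unit.naturality (Formal.smulMod R I t)).symm.trans wI
  have hstalk : ∀ (z : Xs) (n : (F.obj IY).presheaf.stalk z), stalkMapM β z n = 0 →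
      ∃ d, stalkMapM α z d = n := fun z n hn => by
    obtain ⟨y, rfl⟩ := lift hepiY z n
    have h0 : stalkMapM (F.map j) z (QC70.pushStalk i _ z (stalkMapM (adj.unit.app IY) (i z) y)) = 0 := by
      rw [← hβ, stalkMapM_comp]
      exact (congrArg (stalkMapM (kernel.ι πY) z) hn).trans (map0 _ z)
    rw [nat] at h0
    obtain ⟨e, he⟩ := QC70.stalkMapM_exact (ShortComplex.mk _ _ wI) hexI (i z) (stalkMapM j (i z) y)
      ((QC70.bijective_pushStalk i _ z).1 (h0.trans (map_zero _).symm))
    have hy : y = stalkMapM τ (i z) e := by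
      refine QC70.injective_stalkMapM_of_mono j (i z) ?_
      rw [← stalkMapM_comp, hτj]
      exact he.symm
    refine ⟨stalkMapM πY z (QC70.pushStalk i _ z (stalkMapM (adj.unit.app I) (i z) e)), ?_⟩
    change stalkMapM α z _ = _
    rw [← stalkMapM_comp, hα, nat, hy]
  have hex : (ShortComplex.mk α β hαβ).Exact := exact_of_stalk _ hstalk
  -- the middle term does not vanish at the generic points
  have hne : ∀ η ∈ genericPoints Xs, Nontrivial ((F.obj IY).presheaf.stalk η) := fun η hη => by
    by_contra hc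
    rw [not_nontrivial_iff_subsingleton] at hc
    have hIx : Nontrivial (I.presheaf.stalk (i η)) := by
      have := nontrivial_stalk hMr hη
      obtain ⟨m, hm⟩ := exists_ne (0 : (F.obj I).presheaf.stalk η)
      obtain ⟨a, ha⟩ := lift hepiI η m
      refine ⟨a, 0, fun h => hm ?_⟩
      rw [← ha, h, map0, map_zero]
    haveI := hIYc.1
    haveI := hIYc.2
    haveI := QC70.finite_stalk IY (i η)
    have hall : ∀ y : IY.presheaf.stalk (i η), stalkMapM (adj.unit.app IY) (i η) y = 0 := fun y =>
      (QC70.bijective_pushStalk i _ η).1 (Subsingleton.elim _ _)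
    have hb : scalStalk (i η) t ∈ IsLocalRing.maximalIdeal (X.presheaf.stalk (i η)) := by
      intro hu
      have := nontrivial_stalk hMr hη
      obtain ⟨m, hm⟩ := exists_ne (0 : (F.obj I).presheaf.stalk η)
      obtain ⟨a, ha⟩ := lift hepiI η m
      obtain ⟨e, he⟩ : ∃ e, scalStalk (i η) t • e = a := ⟨hu.unit⁻¹.val • a, by
        rw [← mul_smul, IsUnit.mul_val_inv, one_smul]⟩
      refine hm ?_
      rw [← ha, ← he, ← stalkMapM_smulModR, ← stalkMapM_comp, wI, stalkMapM_zero, map_zero]
    haveI : Mono (Formal.smulMod R IY t ≫ j) := by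
      rw [← Formal27.smulMod_comp]
      exact mono_comp _ _
    haveI : Mono (Formal.smulMod R IY t) := mono_of_mono _ j
    have hnak : (⊤ : Submodule (X.presheaf.stalk (i η)) (IY.presheaf.stalk (i η))) ≤
        IsLocalRing.maximalIdeal (X.presheaf.stalk (i η)) • ⊤ := fun y _ => by
      obtain ⟨e, he⟩ := QC70.stalkMapM_exact (ShortComplex.mk _ _ wY) hexY (i η) y (hall y)
      rw [← he]
      change stalkMapM (Formal.smulMod R IY t) (i η) e ∈ _
      rw [stalkMapM_smulModR]
      exact Submodule.smul_mem_smul hb trivial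
    have hbot := Submodule.eq_bot_of_le_smul_of_le_jacobson_bot _ (⊤ : Submodule (X.presheaf.stalk (i η))
      (IY.presheaf.stalk (i η))) Module.Finite.fg_top hnak (IsLocalRing.maximalIdeal_le_jacobson ⊥)
    obtain ⟨a, ha⟩ := exists_ne (0 : I.presheaf.stalk (i η))
    refine ha (QC70.injective_stalkMapM_of_mono τ (i η) ?_)
    rw [map0]
    exact (Submodule.mem_bot (X.presheaf.stalk (i η))).1 (hbot ▸ trivial)
  have htK : TorSh.IsTorsionFree (kernel πY) := isTorsionFree_of_mono (kernel.ι πY) htM
  have hKc : Coh.IsCoh (kernel πY) := QC70.isCoh_kernel πY hMc hGY.2.1.1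
  have hKzero : ∀ η ∈ genericPoints Xs, η ∈ Y → Subsingleton ((kernel πY).presheaf.stalk η) := fun η hη hηY =>
    subsingleton_of_forall_eq 0 fun c => QC70.injective_stalkMapM_of_mono (kernel.ι πY) η <| by
      refine (quot_bijective hGY hMr hη hηY).1 ?_
      rw [← stalkMapM_comp, kernel.condition, stalkMapM_zero, map0, map0]
  have hinjα : ∀ η ∈ genericPoints Xs, Function.Injective (stalkMapM α η) := fun η hη => by
    by_cases hηY : η ∈ Y
    · have := hKzero η hη hηY
      have := hne η hη
      rcases injective_or_zeroAt hMr (F.map τ) hη with h | h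
      · intro a a' ha
        obtain ⟨a, rfl⟩ := quot_surjective hGY η a
        obtain ⟨a', rfl⟩ := quot_surjective hGY η a'
        rw [← stalkMapM_comp, ← stalkMapM_comp, hα] at ha
        rw [h ha]
      · obtain ⟨n, hn⟩ := exists_ne (0 : (F.obj IY).presheaf.stalk η)
        obtain ⟨g, hg⟩ := hstalk η n (Subsingleton.elim _ _)
        obtain ⟨m, rfl⟩ := quot_surjective hGY η g
        refine absurd ?_ hn
        rw [← hg]
        exact (stalkMapM_comp πY α η m).symm.trans ((congrArg (fun φ => stalkMapM φ η m) hα).trans (h m))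
    · have := quot_subsingleton hGY hηY
      exact Function.injective_of_subsingleton _
  haveI : Mono α := mono_of_injective_generic hGY.2.1.1 hGY.2.2.1 α hinjα
  have hS : (ShortComplex.mk α β hαβ).ShortExact := { exact := hex }
  refine ⟨hN, ⟨hNc, fun x => ⟨fun r hr n n' hnn => sub_eq_zero.1 ?_⟩, fun η hη => ?_⟩,
    τ, hτj, α, β, hαβ, hS, hα, hβ⟩
  · have h0 : r • (n - n') = 0 := by rw [smul_sub]; exact sub_eq_zero.2 hnn
    have hb0 : stalkMapM β x (n - n') = 0 := by
      have := htK x
      refine (hr.isSMulRegular (M := (kernel πY).presheaf.stalk x)) ?_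
      change r • stalkMapM β x (n - n') = r • 0
      rw [smul_zero, ← map0 β x, ← h0]
      exact (map_smul (QC70.stalkLinear β x) r (n - n')).symm
    obtain ⟨g, hg⟩ := QC70.stalkMapM_exact (ShortComplex.mk α β hαβ) hex x _ hb0
    have : g = 0 := by
      have := hGY.2.2.1 x
      refine (hr.isSMulRegular (M := GY.presheaf.stalk x)) (QC70.injective_stalkMapM_of_mono α x ?_)
      change stalkMapM α x (r • g) = stalkMapM α x (r • 0)
      rw [smul_zero, map0, ← h0, ← hg]
      exact map_smul (QC70.stalkLinear α x) r g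
    rw [← hg, this]
    exact map0 α x
  · obtain ⟨e⟩ := hMr η hη
    by_cases hηY : η ∈ Y
    · have := hKzero η hη hηY
      refine ⟨((LinearEquiv.ofBijective ((QC70.stalkLinear α η).comp (QC70.stalkLinear πY η))
        ⟨(hinjα η hη).comp (quot_bijective hGY hMr hη hηY).1, fun n => ?_⟩).symm).trans e⟩
      obtain ⟨g, hg⟩ := QC70.stalkMapM_exact (ShortComplex.mk α β hαβ) hex η n (Subsingleton.elim _ _)
      obtain ⟨m, rfl⟩ := quot_surjective hGY η g
      exact ⟨m, hg⟩
    · have := quot_subsingleton hGY hηY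
      refine ⟨((LinearEquiv.ofBijective ((QC70.stalkLinear (kernel.ι πY) η).comp (QC70.stalkLinear β η))
        ⟨(QC70.injective_stalkMapM_of_mono _ η).comp fun a b hab => sub_eq_zero.1 ?_, fun m => ?_⟩)).trans e⟩
      · have h0 : stalkMapM β η (a - b) = 0 := by
          refine (map_sub (QC70.stalkLinear β η) a b).trans (sub_eq_zero.2 hab)
        obtain ⟨g, hg⟩ := QC70.stalkMapM_exact (ShortComplex.mk α β hαβ) hex η _ h0
        rw [← hg, Subsingleton.elim g 0]
        exact map0 α η
      · obtain ⟨c, hc⟩ := QC70.stalkMapM_exact (ShortComplex.mk (kernel.ι πY) πY (kernel.condition πY))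
          (ShortComplex.exact_of_f_is_kernel _ (kernelIsKernel πY)) η m (Subsingleton.elim _ _)
        obtain ⟨n, rfl⟩ := hsurjβ η c
        exact ⟨n, hc⟩

/-- The data of a modification. -/
theorem exists_modification [IsProper (X ↘ Spec (CommRingCat.of R))]
    (hsq : IsPullback i qs (X ↘ Spec (CommRingCat.of R)) (Spec.map (CommRingCat.ofHom (IsLocalRing.residue R))))
    [AlgebraicGeometry.IsReduced Xs] {I : X.Modules} (hIc : Coh.IsCoh I)
    (hIf : FlatMod.IsFlatOver (X ↘ Spec (CommRingCat.of R)) I)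
    (hM : TFOne.IsTF1 Xs ((Scheme.Modules.pullback i).obj I)) {Y : Set Xs} {GY : Xs.Modules}
    {πY : (Scheme.Modules.pullback i).obj I ⟶ GY}
    (hGY : TFOne.IsQuotOn Xs ((Scheme.Modules.pullback i).obj I) Y GY πY) {IY : X.Modules}
    (hIY : IY = kernel ((Scheme.Modules.pullbackPushforwardAdjunction i).unit.app I ≫
      (Scheme.Modules.pushforward i).map πY)) :
    AlgebraicGeometry.IsNoetherian Xs ∧ TFOne.IsTF1 Xs ((Scheme.Modules.pullback i).obj IY) ∧
      ∃ (α : GY ⟶ (Scheme.Modules.pullback i).obj IY) (β : (Scheme.Modules.pullback i).obj IY ⟶ kernel πY)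
        (w : α ≫ β = 0), (ShortComplex.mk α β w).ShortExact := by
  subst hIY
  obtain ⟨t, ht⟩ := IsPrincipalIdealRing.principal (IsLocalRing.maximalIdeal R)
  rw [Ideal.submodule_span_eq] at ht
  obtain ⟨hN, hT, _, -, α, β, w, hS, -⟩ := exists_modification_maps hsq hIc hIf hM hGY ht
  exact ⟨hN, hT, α, β, w, hS⟩

end Groth.Agent.TF64
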