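import Groth.Agent.TF64.Compare
import Groth.Agent.TF64.Deg
import Groth.Agent.TF64.Modif

/-!
The numbers `β` of a sheaf and of its modification.
-/

set_option autoImplicit false
universe u

open CategoryTheory CategoryTheory.Limits AlgebraicGeometry TopologicalSpace
open Groth.Agent.QC70 (stalkMapM germM)

namespace Groth.Agent.TF64

section Sets

variable {X : Scheme.{u}}

theorem generic_mem_sUnion_iff (P : Set X → Prop) {η : X} (hη : η ∈ genericPoints X) :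
    η ∈ ⋃₀ {C | C ∈ irreducibleComponents (X : Type u) ∧ P C} ↔ P (closure {η}) := by
  refine ⟨fun h => ?_, fun h => Set.mem_sUnion.2 ⟨_, ⟨hη, h⟩, subset_closure rfl⟩⟩
  obtain ⟨C, ⟨hC, hP⟩, hηC⟩ := Set.mem_sUnion.1 h
  rwa [closure_eq_of_mem_component hC hη hηC]

theorem closure_subset_iff {Z : Set X} (hZ : IsClosed Z) {η : X} : closure ({η} : Set X) ⊆ Z ↔ η ∈ Z :=
  ⟨fun h => h (subset_closure rfl), closure_subset_of_mem hZ⟩

theorem isSubcurve_of_genClosed {Z : Set X} (hZ : GenClosed Z) (hne : ∃ η ∈ genericPoints X, η ∈ Z) :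
    VecSt.IsSubcurve X Z := by
  obtain ⟨η₀, h₀, hZ₀⟩ := hne
  refine ⟨{C | ∃ η ∈ genericPoints X, η ∈ Z ∧ closure ({η} : Set X) = C},
    fun C ⟨η, hη, _, e⟩ => e ▸ hη, ⟨_, η₀, h₀, hZ₀, rfl⟩, Set.Subset.antisymm (fun x hx => ?_)
      (Set.sUnion_subset fun C ⟨η, _, hηZ, e⟩ => e ▸ closure_subset_of_mem hZ.1 hηZ)⟩
  obtain ⟨η, hη, hηZ, hs⟩ := hZ.2 x hx
  exact Set.mem_sUnion.2 ⟨_, ⟨η, hη, hηZ, rfl⟩, specializes_iff_mem_closure.1 hs⟩

end Sets

variable {k : Type u} [Field k] {X : Scheme.{u}} [X.Over (Spec (CommRingCat.of k))]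
  [IsProper (X ↘ Spec (CommRingCat.of k))] [AlgebraicGeometry.IsReduced X]
  (hpure : ∀ C ∈ irreducibleComponents (X : Type u), topologicalKrullDim C = 1)
include hpure

/-- Degrees cancel in inclusion and exclusion. -/
theorem rBeta_incl_excl {E : X.Modules} {r : ℕ} (hE : FlatMod.IsFinLocFreeOfRank r E)
    {Y Z W U : Set X} (hY : IsClosed Y) (hZ : IsClosed Z) (hW : IsClosed W) (hU : IsClosed U)
    (hWi : ∀ η ∈ genericPoints X, (η ∈ W ↔ η ∈ Y ∧ η ∈ Z))
    (hUi : ∀ η ∈ genericPoints X, (η ∈ U ↔ η ∈ Y ∨ η ∈ Z)) (A B C D : X.Modules) :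
    TFOne.rBeta X k (X ↘ Spec (CommRingCat.of k)) W hW E r A +
        TFOne.rBeta X k (X ↘ Spec (CommRingCat.of k)) U hU E r B -
      (TFOne.rBeta X k (X ↘ Spec (CommRingCat.of k)) Z hZ E r C +
        TFOne.rBeta X k (X ↘ Spec (CommRingCat.of k)) Y hY E r D) =
      (r : ℤ) * (Curv2.euler k X A + Curv2.euler k X B - (Curv2.euler k X C + Curv2.euler k X D)) := by
  classical
  obtain ⟨T, c, hT, -, -, hb⟩ := exists_deg_weights (k := k) hpure hE
  refine Int.cast_injective (α := ℚ) ?_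
  push_cast
  rw [hb W hW A, hb U hU B, hb Z hZ C, hb Y hY D]
  have h : ∑ η ∈ T.filter (· ∈ W), c η + ∑ η ∈ T.filter (· ∈ U), c η =
      ∑ η ∈ T.filter (· ∈ Z), c η + ∑ η ∈ T.filter (· ∈ Y), c η := by
    simp only [Finset.sum_filter, ← Finset.sum_add_distrib]
    refine Finset.sum_congr rfl fun η hη => ?_
    have h1 := hWi η ((hT η).1 hη)
    have h2 := hUi η ((hT η).1 hη)
    by_cases hy : η ∈ Y <;> by_cases hz : η ∈ Z <;> simp [h1, h2, hy, hz]
  linarith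

theorem euler_quot_univ {M G : X.Modules} (hM : TFOne.IsTF1 X M) {π : M ⟶ G}
    (h : TFOne.IsQuotOn X M Set.univ G π) : Curv2.euler k X G = Curv2.euler k X M := by
  have := Crv77.isNoetherian_of_proper k X
  haveI := h.1
  haveI : Mono π := mono_of_injective_generic hM.1.1 hM.2.1 π fun η hη =>
    (quot_bijective h hM.2.2 hη trivial).1
  haveI : IsIso π := isIso_of_mono_of_epi π
  exact (Crv77.euler_congr (k := k) (asIso π)).symm

theorem rBeta_univ {M G E : X.Modules} {r : ℕ} (hE : FlatMod.IsFinLocFreeOfRank r E)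
    (hM : TFOne.IsTF1 X M) {π : M ⟶ G} {U : Set X} (hU : IsClosed U) (hUu : U = Set.univ)
    (h : TFOne.IsQuotOn X M U G π) :
    TFOne.rBeta X k (X ↘ Spec (CommRingCat.of k)) U hU E r G =
      (r : ℤ) * Curv2.euler k X M + Curv2.deg k X E r := by
  classical
  subst hUu
  obtain ⟨T, c, hT, hd, -, hb⟩ := exists_deg_weights (k := k) hpure hE
  refine Int.cast_injective (α := ℚ) ?_
  push_cast
  rw [hb, hd, euler_quot_univ hpure hM h]
  simp

theorem rBeta_empty {M G E : X.Modules} {r : ℕ} (hE : FlatMod.IsFinLocFreeOfRank r E)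
    {π : M ⟶ G} {W : Set X} (hW : IsClosed W) (hW0 : ∀ η ∈ genericPoints X, η ∉ W)
    (h : TFOne.IsQuotOn X M W G π) :
    Curv2.euler k X G = 0 ∧ TFOne.rBeta X k (X ↘ Spec (CommRingCat.of k)) W hW E r G = 0 := by
  classical
  have := Crv77.isNoetherian_of_proper k X
  have hG : Curv2.euler k X G = 0 := euler_eq_zero_of_isZero (Crv77.dim_le_one_of_components hpure) (by
    rw [IsZero.iff_id_eq_zero]
    exact eq_zero_of_zeroAt h.2.1.1 h.2.2.1 _ fun η hη _ =>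
      (quot_subsingleton h (hW0 η hη)).elim _ _)
  refine ⟨hG, ?_⟩
  obtain ⟨T, c, hT, -, -, hb⟩ := exists_deg_weights (k := k) hpure hE
  refine Int.cast_injective (α := ℚ) ?_
  rw [hb, hG, Finset.filter_false_of_mem fun η hη => hW0 η ((hT η).1 hη)]
  simp

/-- `β(W) + β(Y ∪ Z) ≤ β^Y(Z) + β(Y)`, with equality measured by Euler characteristics. -/
theorem beta_compare {M N E : X.Modules} {r : ℕ} (hE : FlatMod.IsFinLocFreeOfRank r E) (hr : 0 < r)
    (hM : TFOne.IsTF1 X M) (hN : TFOne.IsTF1 X N) {Y Z W U : Set X}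
    (hY : IsClosed Y) (hZ : IsClosed Z) (hW : IsClosed W) (hU : IsClosed U) (hYU : Y ⊆ U)
    (hWi : ∀ η ∈ genericPoints X, (η ∈ W ↔ η ∈ Y ∧ η ∈ Z))
    (hUi : ∀ η ∈ genericPoints X, (η ∈ U ↔ η ∈ Y ∨ η ∈ Z))
    {GY GW GU GZ1 : X.Modules} {πY : M ⟶ GY} {πW : M ⟶ GW} {πU : M ⟶ GU} {πZ1 : N ⟶ GZ1}
    (hGY : TFOne.IsQuotOn X M Y GY πY) (hGW : TFOne.IsQuotOn X M W GW πW)
    (hGU : TFOne.IsQuotOn X M U GU πU) (hGZ1 : TFOne.IsQuotOn X N Z GZ1 πZ1)
    {α : GY ⟶ N} {β : N ⟶ kernel πY} {w : α ≫ β = 0} (hS : (ShortComplex.mk α β w).ShortExact) :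
    TFOne.rBeta X k (X ↘ Spec (CommRingCat.of k)) W hW E r GW +
          TFOne.rBeta X k (X ↘ Spec (CommRingCat.of k)) U hU E r GU ≤
        TFOne.rBeta X k (X ↘ Spec (CommRingCat.of k)) Z hZ E r GZ1 +
          TFOne.rBeta X k (X ↘ Spec (CommRingCat.of k)) Y hY E r GY ∧
      (TFOne.rBeta X k (X ↘ Spec (CommRingCat.of k)) W hW E r GW +
          TFOne.rBeta X k (X ↘ Spec (CommRingCat.of k)) U hU E r GU =
        TFOne.rBeta X k (X ↘ Spec (CommRingCat.of k)) Z hZ E r GZ1 +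
          TFOne.rBeta X k (X ↘ Spec (CommRingCat.of k)) Y hY E r GY ↔
        Curv2.euler k X GW + Curv2.euler k X GU = Curv2.euler k X GZ1 + Curv2.euler k X GY) := by
  have hd := rBeta_incl_excl (k := k) hpure hE hY hZ hW hU hWi hUi GW GU GZ1 GY
  have hc := (compare (k := k) (Crv77.dim_le_one_of_components hpure) hM hN hGY hGW hGU hGZ1 hWi hUi hYU
    α β w hS).1
  have hr' : (0 : ℤ) < (r : ℤ) := by exact_mod_cast hr
  have hmul := mul_nonpos_of_nonneg_of_nonpos hr'.le (sub_nonpos.2 hc)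
  refine ⟨by linarith, fun h => ?_, fun h => ?_⟩
  · rw [h, sub_self] at hd
    exact sub_eq_zero.1 ((mul_eq_zero.1 hd.symm).resolve_left hr'.ne')
  · rw [sub_eq_zero.2 h, mul_zero] at hd
    exact sub_eq_zero.1 hd

/-- The Euler characteristic of the quotient of the modification on a set meeting no component in `Y`. -/
theorem euler_quot_away {M N : X.Modules} (hM : TFOne.IsTF1 X M) (hN : TFOne.IsTF1 X N) {Y Z U : Set X}
    (hYU : Y ⊆ U) (hUi : ∀ η ∈ genericPoints X, (η ∈ U ↔ η ∈ Y ∨ η ∈ Z))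
    (hd : ∀ η ∈ genericPoints X, η ∈ Z → η ∉ Y)
    {GY GU GZ1 : X.Modules} {πY : M ⟶ GY} {πU : M ⟶ GU} {πZ1 : N ⟶ GZ1}
    (hGY : TFOne.IsQuotOn X M Y GY πY) (hGU : TFOne.IsQuotOn X M U GU πU)
    (hGZ1 : TFOne.IsQuotOn X N Z GZ1 πZ1)
    {α : GY ⟶ N} {β : N ⟶ kernel πY} {w : α ≫ β = 0} (hS : (ShortComplex.mk α β w).ShortExact) :
    Curv2.euler k X GZ1 + Curv2.euler k X GY = Curv2.euler k X GU := by
  have := Crv77.isNoetherian_of_proper k X
  have hdim := Crv77.dim_le_one_of_components hpure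
  obtain ⟨G0, π0, hG0⟩ := exists_quot hM.1 hM.2.1 hM.2.2 (Z := (∅ : Set X)) ⟨isClosed_empty, fun x hx => hx.elim⟩
  have hz : Curv2.euler k X G0 = 0 := euler_eq_zero_of_isZero hdim (by
    rw [IsZero.iff_id_eq_zero]
    exact eq_zero_of_zeroAt hG0.2.1.1 hG0.2.2.1 _ fun η hη _ =>
      (quot_subsingleton hG0 (Set.notMem_empty η)).elim _ _)
  have h := (compare (k := k) hdim hM hN hGY hG0 hGU hGZ1
    (fun η hη => ⟨fun h => h.elim, fun h => hd η hη h.2 h.1⟩) hUi hYU α β w hS).2.1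
      fun η hη h => hd η hη h.2 h.1
  linarith

end Groth.Agent.TF64
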