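import Groth.Agent.TF64.Euler
import Groth.Agent.TF64.Quotient

/-!
Euler characteristics of the quotients of an extension of a torsion-free sheaf by a quotient.
-/

set_option autoImplicit false
universe u

open CategoryTheory CategoryTheory.Limits AlgebraicGeometry TopologicalSpace
open Groth.Agent.QC70 (stalkMapM germM)

namespace Groth.Agent.TF64

variable {k : Type u} [Field k] {X : Scheme.{u}} [X.Over (Spec (CommRingCat.of k))]
  [IsProper (X ↘ Spec (CommRingCat.of k))] [AlgebraicGeometry.IsReduced X]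

theorem euler_eq_zero_of_isZero (hdim : topologicalKrullDim X ≤ 1) {M : X.Modules} (h : IsZero M) :
    Curv2.euler k X M = 0 := by
  have e := euler_eq_kernel_add (k := k) hdim (𝟙 M) (QC70.isCoh_of_isZero h) (QC70.isCoh_of_isZero h).1
  rw [Crv77.euler_congr (k := k) ((IsZero.of_mono (kernel.ι (𝟙 M)) h).iso h)] at e
  linarith

theorem compare (hdim : topologicalKrullDim X ≤ 1) {M N : X.Modules} (hM : TFOne.IsTF1 X M)
    (hN : TFOne.IsTF1 X N) {Y Z W U : Set X} {GY GW GU GZ1 : X.Modules}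
    {πY : M ⟶ GY} {πW : M ⟶ GW} {πU : M ⟶ GU} {πZ1 : N ⟶ GZ1}
    (hGY : TFOne.IsQuotOn X M Y GY πY) (hGW : TFOne.IsQuotOn X M W GW πW)
    (hGU : TFOne.IsQuotOn X M U GU πU) (hGZ1 : TFOne.IsQuotOn X N Z GZ1 πZ1)
    (hW : ∀ η ∈ genericPoints X, (η ∈ W ↔ η ∈ Y ∧ η ∈ Z))
    (hU : ∀ η ∈ genericPoints X, (η ∈ U ↔ η ∈ Y ∨ η ∈ Z)) (hYU : Y ⊆ U)
    (α : GY ⟶ N) (β : N ⟶ kernel πY) (w : α ≫ β = 0) (hS : (ShortComplex.mk α β w).ShortExact) :
    Curv2.euler k X GW + Curv2.euler k X GU ≤ Curv2.euler k X GZ1 + Curv2.euler k X GY ∧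
      ((∀ η ∈ genericPoints X, ¬ (η ∈ Y ∧ η ∈ Z)) →
        Curv2.euler k X GW + Curv2.euler k X GU = Curv2.euler k X GZ1 + Curv2.euler k X GY) ∧
      ((∀ η ∈ genericPoints X, η ∈ Y ∨ η ∈ Z) →
        Curv2.euler k X GW + Curv2.euler k X GU = Curv2.euler k X GZ1 + Curv2.euler k X GY) := by
  have := Crv77.isNoetherian_of_proper k X
  obtain ⟨hMc, htM, hMr⟩ := hM
  obtain ⟨hNc, htN, hNr⟩ := hN
  haveI := hGY.1
  haveI := hGW.1
  haveI := hGU.1
  haveI := hGZ1.1
  haveI : Mono α := hS.mono_f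
  haveI : Epi β := hS.epi_g
  have hK0 : ∀ η ∈ genericPoints X, η ∈ Y → Subsingleton ((kernel πY).presheaf.stalk η) := fun η hη hηY =>
    subsingleton_of_forall_eq 0 fun c => QC70.injective_stalkMapM_of_mono (kernel.ι πY) η <| by
      refine (quot_bijective hGY hMr hη hηY).1 ?_
      rw [← stalkMapM_comp, kernel.condition, stalkMapM_zero, map0, map0]
  obtain ⟨gU, hgU⟩ := exists_restrict hGU hMr hGY hYU
  haveI : Epi (πU ≫ gU) := hgU ▸ hGY.1
  haveI : Epi gU := epi_of_epi πU gU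
  let ρ : kernel πY ⟶ kernel gU := kernel.lift gU (kernel.ι πY ≫ πU) (by
    rw [Category.assoc, hgU, kernel.condition])
  have hρ : ρ ≫ kernel.ι gU = kernel.ι πY ≫ πU := kernel.lift_ι _ _ _
  have hρs : ∀ x, Function.Surjective (stalkMapM ρ x) := fun x c => by
    obtain ⟨m, hm⟩ := quot_surjective hGU x (stalkMapM (kernel.ι gU) x c)
    obtain ⟨m', hm'⟩ := QC70.stalkMapM_exact (ShortComplex.mk _ _ (kernel.condition πY))
      (ShortComplex.exact_of_f_is_kernel _ (kernelIsKernel πY)) x m (by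
        change stalkMapM πY x m = 0
        rw [← hgU, stalkMapM_comp, hm, ← stalkMapM_comp, kernel.condition, stalkMapM_zero])
    refine ⟨m', QC70.injective_stalkMapM_of_mono (kernel.ι gU) x ?_⟩
    rw [← stalkMapM_comp, hρ, stalkMapM_comp]
    exact (congrArg (stalkMapM πU x) hm').trans hm
  haveI : Epi ρ := QC70.epi_of_surjective_stalkMapM ρ hρs
  have hKUc : Coh.IsCoh (kernel gU) := QC70.isCoh_kernel gU hGU.2.1 hGY.2.1.1
  have htKU : TorSh.IsTorsionFree (kernel gU) := isTorsionFree_of_mono (kernel.ι gU) hGU.2.2.1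
  obtain ⟨g, hg⟩ := exists_desc hGZ1 hNr hKUc.1 htKU (β ≫ ρ) fun η hη hηZ e => by
    rw [stalkMapM_comp]
    by_cases hηY : η ∈ Y
    · have := hK0 η hη hηY
      rw [show stalkMapM β η e = 0 from Subsingleton.elim _ _, map0]
    · refine QC70.injective_stalkMapM_of_mono (kernel.ι gU) η ?_
      rw [map0]
      have := quot_subsingleton hGU (x := η) fun h => ((hU η hη).1 h).elim hηY hηZ
      exact Subsingleton.elim _ _
  haveI : Epi (πZ1 ≫ g) := hg ▸ epi_comp _ _
  haveI : Epi g := epi_of_epi πZ1 g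
  obtain ⟨a, ha⟩ := exists_desc hGW hMr hGZ1.2.1.1 hGZ1.2.2.1 (πY ≫ α ≫ πZ1) fun η hη hηW e => by
    rw [stalkMapM_comp]
    by_cases hηY : η ∈ Y
    · rw [stalkMapM_comp]
      exact quot_zeroAt hGZ1 (fun h => hηW ((hW η hη).2 ⟨hηY, h⟩)) _
    · rw [quot_zeroAt hGY hηY e, map0]
  have hag : a ≫ g = 0 := by
    rw [← cancel_epi πW, comp_zero, ← Category.assoc, ha]
    simp only [Category.assoc]
    rw [hg, reassoc_of% w, zero_comp, comp_zero]
  have hainj : ∀ η ∈ genericPoints X, η ∈ W → Function.Bijective (stalkMapM a η) := fun η hη hηW => by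
    obtain ⟨hηY, hηZ⟩ := (hW η hη).1 hηW
    refine ⟨fun p q hpq => ?_, fun y => ?_⟩
    · obtain ⟨p, rfl⟩ := quot_surjective hGW η p
      obtain ⟨q, rfl⟩ := quot_surjective hGW η q
      rw [← stalkMapM_comp, ← stalkMapM_comp, ha] at hpq
      simp only [stalkMapM_comp] at hpq
      rw [(quot_bijective hGY hMr hη hηY).1
        (QC70.injective_stalkMapM_of_mono α η ((quot_bijective hGZ1 hNr hη hηZ).1 hpq))]
    · obtain ⟨n, rfl⟩ := quot_surjective hGZ1 η y
      have := hK0 η hη hηY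
      obtain ⟨y', hy'⟩ := QC70.stalkMapM_exact (ShortComplex.mk α β w) hS.exact η n (Subsingleton.elim _ _)
      obtain ⟨m, rfl⟩ := quot_surjective hGY η y'
      refine ⟨stalkMapM πW η m, ?_⟩
      rw [← stalkMapM_comp, ha, stalkMapM_comp, stalkMapM_comp]
      exact congrArg (stalkMapM πZ1 η) hy'
  haveI : Mono a := mono_of_injective_generic hGW.2.1.1 hGW.2.2.1 a fun η hη => by
    by_cases h : η ∈ W
    · exact (hainj η hη h).1
    · have := quot_subsingleton hGW h
      exact Function.injective_of_subsingleton _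
  let c : GW ⟶ kernel g := kernel.lift g a hag
  have hc : c ≫ kernel.ι g = a := kernel.lift_ι _ _ _
  haveI : Mono c := mono_of_mono_fac hc
  have hKgc : Coh.IsCoh (kernel g) := QC70.isCoh_kernel g hGZ1.2.1 hKUc.1
  have hcs : ∀ η ∈ genericPoints X, Function.Surjective (stalkMapM c η) := fun η hη y => by
    by_cases hηW : η ∈ W
    · obtain ⟨p, hp⟩ := (hainj η hη hηW).2 (stalkMapM (kernel.ι g) η y)
      exact ⟨p, QC70.injective_stalkMapM_of_mono (kernel.ι g) η (by rw [← stalkMapM_comp, hc, hp])⟩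
    refine ⟨0, QC70.injective_stalkMapM_of_mono (kernel.ι g) η ?_⟩
    rw [map0, map0]
    symm
    by_cases hηZ : η ∈ Z
    · have hηY : η ∉ Y := fun h => hηW ((hW η hη).2 ⟨h, hηZ⟩)
      obtain ⟨n, hn⟩ := quot_surjective hGZ1 η (stalkMapM (kernel.ι g) η y)
      have h0 : stalkMapM ρ η (stalkMapM β η n) = 0 := by
        rw [← stalkMapM_comp, ← hg, stalkMapM_comp, hn, ← stalkMapM_comp, kernel.condition, stalkMapM_zero]
      have h1 : stalkMapM β η n = 0 := by
        refine QC70.injective_stalkMapM_of_mono (kernel.ι πY) η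
          ((quot_bijective hGU hMr hη ((hU η hη).2 (Or.inr hηZ))).1 ?_)
        rw [map0, map0, ← stalkMapM_comp, ← hρ, stalkMapM_comp, h0, map0]
      have := quot_subsingleton hGY hηY
      obtain ⟨d, hd⟩ := QC70.stalkMapM_exact (ShortComplex.mk α β w) hS.exact η n h1
      rw [← hn, ← hd, Subsingleton.elim d 0]
      exact (congrArg (stalkMapM πZ1 η) (map0 α η)).trans (map0 πZ1 η)
    · have := quot_subsingleton hGZ1 hηZ
      exact Subsingleton.elim _ _
  have e1 := euler_eq_kernel_add (k := k) hdim g hGZ1.2.1 hKUc.1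
  have e2 := euler_eq_kernel_add (k := k) hdim gU hGU.2.1 hGY.2.1.1
  have hle := euler_le_of_mono (k := k) hdim c hGW.2.1 hKgc hcs
  refine ⟨by linarith, fun h => ?_, fun h => ?_⟩
  · have hz : ∀ η ∈ genericPoints X, Subsingleton (GW.presheaf.stalk η) := fun η hη =>
      quot_subsingleton hGW fun hh => h η hη ((hW η hη).1 hh)
    have hW0 : IsZero GW := by
      rw [IsZero.iff_id_eq_zero]
      exact eq_zero_of_zeroAt hGW.2.1.1 hGW.2.2.1 _ fun η hη _ => (hz η hη).elim _ _
    have hK : IsZero (kernel g) := by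
      rw [IsZero.iff_id_eq_zero]
      refine eq_zero_of_zeroAt hKgc.1 (isTorsionFree_of_mono (kernel.ι g) hGZ1.2.2.1) _ fun η hη y => ?_
      obtain ⟨p, rfl⟩ := hcs η hη y
      have := hz η hη
      rw [Subsingleton.elim p 0, map0, map0]
    rw [euler_eq_zero_of_isZero hdim hW0]
    rw [euler_eq_zero_of_isZero hdim hK] at e1
    linarith
  · haveI : Mono πU := mono_of_injective_generic hMc.1 htM πU fun η hη =>
      (quot_bijective hGU hMr hη ((hU η hη).2 (h η hη))).1
    haveI : Epi c := QC70.epi_of_surjective_stalkMapM c fun x y => by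
      obtain ⟨n, hn⟩ := quot_surjective hGZ1 x (stalkMapM (kernel.ι g) x y)
      have h0 : stalkMapM (kernel.ι πY ≫ πU) x (stalkMapM β x n) = 0 := by
        rw [← hρ, stalkMapM_comp, ← stalkMapM_comp β ρ, ← hg, stalkMapM_comp, hn, ← stalkMapM_comp (kernel.ι g) g,
          kernel.condition, stalkMapM_zero, map0]
      have h1 : stalkMapM β x n = 0 :=
        QC70.injective_stalkMapM_of_mono (kernel.ι πY ≫ πU) x (h0.trans (map0 _ x).symm)
      obtain ⟨d, hd⟩ := QC70.stalkMapM_exact (ShortComplex.mk α β w) hS.exact x n h1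
      obtain ⟨m, rfl⟩ := quot_surjective hGY x d
      refine ⟨stalkMapM πW x m, QC70.injective_stalkMapM_of_mono (kernel.ι g) x ?_⟩
      rw [← stalkMapM_comp, hc, ← stalkMapM_comp, ha, stalkMapM_comp, stalkMapM_comp, ← hn]
      exact congrArg (stalkMapM πZ1 x) hd
    haveI : IsIso c := isIso_of_mono_of_epi c
    rw [← Crv77.euler_congr (k := k) (asIso c)] at e1
    linarith

end Groth.Agent.TF64
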