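import Groth.Agent.TF64.Modif
import Mathlib.RingTheory.Flat.TorsionFree
import Mathlib.RingTheory.Flat.Stability
import Mathlib.RingTheory.Flat.Localization

/-!
A module on a scheme over a discrete valuation ring is flat when the uniformizer acts injectively.
-/

set_option autoImplicit false
universe u

open CategoryTheory CategoryTheory.Limits AlgebraicGeometry TopologicalSpace
open Groth.Agent.QC70 (stalkMapM germM)

namespace Groth.Agent.TF64

variable {R : Type u} [CommRing R] [IsDomain R] [IsDiscreteValuationRing R] {X : Scheme.{u}}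
  [X.Over (Spec (CommRingCat.of R))]

theorem isFlatOver_of_mono_smulMod {M : X.Modules} {t : R} (ht : IsLocalRing.maximalIdeal R = Ideal.span {t})
    [Mono (Formal.smulMod R M t)] : FlatMod.IsFlatOver (X ↘ Spec (CommRingCat.of R)) M := by
  intro x
  let q := X ↘ Spec (CommRingCat.of R)
  let S := Spec (CommRingCat.of R)
  letI := FlatMod.moduleStalkOver q M x
  show Module.Flat (S.presheaf.stalk (q x)) (M.presheaf.stalk x)
  let φ : R →+* S.presheaf.stalk (q x) :=
    (S.presheaf.germ ⊤ (q x) trivial).hom.comp (Scheme.ΓSpecIso (CommRingCat.of R)).inv.hom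
  letI : Algebra R (S.presheaf.stalk (q x)) := φ.toAlgebra
  letI : Module R (M.presheaf.stalk x) := Module.compHom _ φ
  haveI : IsScalarTower R (S.presheaf.stalk (q x)) (M.presheaf.stalk x) :=
    ⟨fun r s m => by
      show ((φ r) * s) • m = φ r • (s • m)
      exact mul_smul _ _ _⟩
  let y : PrimeSpectrum R := q x
  haveI hloc : IsLocalization.AtPrime (S.presheaf.stalk (q x)) y.asIdeal := by
    have h := StructureSheaf.IsLocalization.to_stalk R y
    have e : φ.toAlgebra = StructureSheaf.stalkAlgebra R y := Algebra.algebra_ext _ _ fun r => rfl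
    show @IsLocalization R _ y.asIdeal.primeCompl (S.presheaf.stalk (q x)) _ φ.toAlgebra
    rw [e]
    exact h
  rw [Module.flat_iff_of_isLocalization (S.presheaf.stalk (q x)) y.asIdeal.primeCompl,
    Module.Flat.flat_iff_torsion_eq_bot_of_isBezout, eq_bot_iff]
  rintro m ⟨⟨c, hc⟩, hcm⟩
  have hc0 : c ≠ 0 := nonZeroDivisors.ne_zero hc
  obtain ⟨k, u, rfl⟩ := IsDiscreteValuationRing.eq_unit_mul_pow_irreducible hc0
    ((IsDiscreteValuationRing.irreducible_iff_uniformizer t).2 ht)
  have hsm : ∀ e : M.presheaf.stalk x, stalkMapM (Formal.smulMod R M t) x e = φ t • e := fun e => by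
    rw [stalkMapM_smulModR]
    change scalStalk x t • e = q.stalkMap x (φ t) • e
    congr 1
    exact (Scheme.Hom.germ_stalkMap_apply q (⊤ : S.Opens) x trivial _).symm
  have hinj : ∀ e : M.presheaf.stalk x, φ t • e = 0 → e = 0 := fun e he =>
    QC70.injective_stalkMapM_of_mono (Formal.smulMod R M t) x (by rw [hsm, he, map0])
  have h1 : φ (↑u * t ^ k) • m = 0 := hcm
  rw [map_mul, mul_smul] at h1
  have h2 : φ (t ^ k) • m = 0 := (smul_eq_zero_iff_eq ((u.map φ.toMonoidHom))).1 h1
  rw [map_pow] at h2
  clear hcm hc hc0 h1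
  induction k generalizing m with
  | zero => simpa using h2
  | succ k ih =>
    rw [pow_succ', mul_smul] at h2
    exact ih (hinj _ h2)

end Groth.Agent.TF64
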