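import Groth.Agent.Var76.BertiniScheme
import Mathlib.AlgebraicGeometry.Geometrically.Integral
import Mathlib.LinearAlgebra.TensorProduct.Tower
import Mathlib.LinearAlgebra.Dimension.Constructions
import Mathlib.FieldTheory.IsAlgClosed.AlgebraicClosure
import Mathlib.RingTheory.Flat.Basic

/-!
On a geometrically integral scheme over a field, a function on an affine open which is algebraic over
the field is constant.
-/

set_option autoImplicit false
universe u

open CategoryTheory CategoryTheory.Limits AlgebraicGeometry TopologicalSpace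
open scoped TensorProduct
open Groth.Agent.Var76.BertiniScheme (const)

namespace Groth.Agent.TF64

variable {k : Type u} [Field k] {Y : Scheme.{u}} [Y.Over (Spec (CommRingCat.of k))]

theorem isDomain_tensor [GeometricallyIntegral (Y ↘ Spec (CommRingCat.of k))] {U : Y.Opens}
    (hU : IsAffineOpen U) (hne : (U : Set Y).Nonempty) (K : Type u) [Field K] [Algebra k K] :
    letI := (const Y U (k := k)).toAlgebra
    IsDomain (Γ(Y, U) ⊗[k] K) := by
  letI := (const Y U (k := k)).toAlgebra
  let q := Y ↘ Spec (CommRingCat.of k)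
  let g : Spec (CommRingCat.of K) ⟶ Spec (CommRingCat.of k) :=
    Spec.map (CommRingCat.ofHom (algebraMap k K))
  have : IsIntegral (pullback q g) :=
    GeometricallyIntegral.geometrically_isIntegral (f := q) g _ _ (IsPullback.of_hasPullback q g)
  have e : Spec.map (CommRingCat.ofHom (algebraMap k Γ(Y, U))) = hU.fromSpec ≫ q :=
    Var76.BertiniScheme.SpecMap_const hU
  let m : pullback (hU.fromSpec ≫ q) g ⟶ pullback q g :=
    pullback.map (hU.fromSpec ≫ q) g q g hU.fromSpec (𝟙 _) (𝟙 _) (Category.comp_id _) (by simp)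
  have hsq : IsPullback m (pullback.fst (hU.fromSpec ≫ q) g) (pullback.fst q g) hU.fromSpec := by
    refine IsPullback.of_right (h₁₂ := pullback.snd q g) (v₁₃ := g) (h₂₂ := q) ?_ ?_
      ((IsPullback.of_hasPullback q g).flip)
    · rw [pullback.lift_snd, Category.comp_id]
      exact (IsPullback.of_hasPullback (hU.fromSpec ≫ q) g).flip
    · exact pullback.lift_fst _ _ _
  have : IsOpenImmersion m := MorphismProperty.of_isPullback hsq.flip inferInstance
  obtain ⟨y, hy⟩ := hne
  obtain ⟨s, hs⟩ : y ∈ Set.range hU.fromSpec := by rw [hU.range_fromSpec]; exact hy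
  obtain ⟨p, -, -⟩ := Scheme.Pullback.exists_preimage_pullback (f := hU.fromSpec ≫ q) (g := g) s
    (IsLocalRing.closedPoint K) (Subsingleton.elim _ _)
  have : Nonempty ↥(pullback (hU.fromSpec ≫ q) g) := ⟨p⟩
  have hint : IsIntegral (pullback (hU.fromSpec ≫ q) g) := isIntegral_of_isOpenImmersion m
  let θ : pullback (hU.fromSpec ≫ q) g ≅ Spec (CommRingCat.of (Γ(Y, U) ⊗[k] K)) :=
    pullback.congrHom e.symm rfl ≪≫ pullbackSpecIso k Γ(Y, U) K
  have : Nonempty ↥(Spec (CommRingCat.of (Γ(Y, U) ⊗[k] K))) := ⟨θ.hom p⟩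
  have : IsIntegral (Spec (CommRingCat.of (Γ(Y, U) ⊗[k] K))) := isIntegral_of_isOpenImmersion θ.inv
  exact (affine_isIntegral_iff (CommRingCat.of (Γ(Y, U) ⊗[k] K))).mp inferInstance

/-- A function on an affine open of a geometrically integral scheme which is algebraic over the field is
constant. -/
theorem exists_const_of_isIntegral [GeometricallyIntegral (Y ↘ Spec (CommRingCat.of k))] {U : Y.Opens}
    (hU : IsAffineOpen U) (hne : (U : Set Y).Nonempty) (f : Γ(Y, U))
    (hf : (const Y U (k := k)).IsIntegralElem f) : ∃ c : k, const Y U c = f := by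
  letI := (const Y U (k := k)).toAlgebra
  let Kb := AlgebraicClosure k
  have hD : IsDomain (Γ(Y, U) ⊗[k] Kb) := isDomain_tensor hU hne Kb
  let L := Algebra.adjoin k ({f} : Set Γ(Y, U))
  have hfin : Module.Finite k L := Module.Finite.of_fg (IsIntegral.fg_adjoin_singleton (R := k) hf)
  have hinj : Function.Injective (Algebra.TensorProduct.map (AlgHom.id k Kb) L.val) :=
    Module.Flat.lTensor_preserves_injective_linearMap L.val.toLinearMap Subtype.val_injective
  have hD' : IsDomain (Kb ⊗[k] Γ(Y, U)) :=
    MulEquiv.isDomain _ (Algebra.TensorProduct.comm k Kb Γ(Y, U)).toMulEquiv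
  have hDL : IsDomain (Kb ⊗[k] L) :=
    Function.Injective.isDomain (Algebra.TensorProduct.map (AlgHom.id k Kb) L.val).toRingHom hinj
  have hbij := IsAlgClosed.algebraMap_bijective_of_isIntegral (k := Kb) (K := Kb ⊗[k] L)
  have h1 : Module.finrank Kb (Kb ⊗[k] L) = 1 := by
    rw [← (LinearEquiv.ofBijective (Algebra.linearMap Kb (Kb ⊗[k] L)) hbij).finrank_eq]
    exact Module.finrank_self Kb
  rw [Module.finrank_baseChange] at h1
  have hf' : f ∈ (⊥ : Subalgebra k Γ(Y, U)) :=
    (Subalgebra.eq_bot_of_finrank_one h1).le (Algebra.self_mem_adjoin_singleton k f)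
  exact Algebra.mem_bot.mp hf'

end Groth.Agent.TF64
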