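import Groth.Agent.TF64.Modif
import Groth.Agent.TF64.FlatTF

/-!
One modification step when both restrictions decompose along the subcurve.
-/

set_option autoImplicit false
universe u

open CategoryTheory CategoryTheory.Limits AlgebraicGeometry TopologicalSpace
open Groth.Agent.QC70 (stalkMapM germM)

namespace Groth.Agent.TF64

variable {R : Type u} [CommRing R] [IsDomain R] [IsDiscreteValuationRing R] {X : Scheme.{u}}
  [X.Over (Spec (CommRingCat.of R))] {Xs : Scheme.{u}} {i : Xs ⟶ X}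
  {qs : Xs ⟶ Spec (CommRingCat.of (IsLocalRing.ResidueField R))}

/-- The composite of the restriction to the special fibre with a map out of the restriction. -/
noncomputable abbrev toPush (i : Xs ⟶ X) {I : X.Modules} {G : Xs.Modules}
    (π : (Scheme.Modules.pullback i).obj I ⟶ G) : I ⟶ (Scheme.Modules.pushforward i).obj G :=
  (Scheme.Modules.pullbackPushforwardAdjunction i).unit.app I ≫ (Scheme.Modules.pushforward i).map π

theorem toPush_naturality {A B : X.Modules} (φ : A ⟶ B) {G : Xs.Modules}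
    (π : (Scheme.Modules.pullback i).obj B ⟶ G) :
    φ ≫ toPush i π = toPush i ((Scheme.Modules.pullback i).map φ ≫ π) := by
  simp only [toPush, Functor.map_comp]
  exact (reassoc_of% (Scheme.Modules.pullbackPushforwardAdjunction i).unit.naturality φ) _

theorem toPush_comp {A : X.Modules} {G H : Xs.Modules} (π : (Scheme.Modules.pullback i).obj A ⟶ G) (g : G ⟶ H) :
    toPush i π ≫ (Scheme.Modules.pushforward i).map g = toPush i (π ≫ g) := by
  simp [toPush]

variable [IsProper (X ↘ Spec (CommRingCat.of R))]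
  (hsq : IsPullback i qs (X ↘ Spec (CommRingCat.of R)) (Spec.map (CommRingCat.ofHom (IsLocalRing.residue R))))

/-- One step of the tower. -/
structure StepData (t : R) {I IY : X.Modules} {G G₁ : Xs.Modules}
    (π : (Scheme.Modules.pullback i).obj I ⟶ G) (π₁ : (Scheme.Modules.pullback i).obj IY ⟶ G₁) where
  j : IY ⟶ I
  τ : I ⟶ IY
  a : G ≅ G₁
  mono_j : Mono j
  j_zero : j ≫ toPush i π = 0
  lift : ∀ {W : X.Modules} (w : W ⟶ I), w ≫ toPush i π = 0 → ∃ v : W ⟶ IY, v ≫ j = w
  τ_j : τ ≫ j = Formal.smulMod R I t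
  π_a : π ≫ a.hom = (Scheme.Modules.pullback i).map τ ≫ π₁

include hsq in
theorem exists_step [AlgebraicGeometry.IsReduced Xs] {t : R} (ht : IsLocalRing.maximalIdeal R = Ideal.span {t})
    {I : X.Modules} (hIc : Coh.IsCoh I) (hIf : FlatMod.IsFlatOver (X ↘ Spec (CommRingCat.of R)) I)
    (hM : TFOne.IsTF1 Xs ((Scheme.Modules.pullback i).obj I)) {Y Y' : Set Xs}
    (hY' : ∀ η ∈ genericPoints Xs, (η ∈ Y' ↔ η ∉ Y))
    {G G' : Xs.Modules} {π : (Scheme.Modules.pullback i).obj I ⟶ G} {π' : (Scheme.Modules.pullback i).obj I ⟶ G'}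
    (hG : TFOne.IsQuotOn Xs ((Scheme.Modules.pullback i).obj I) Y G π)
    (hG' : TFOne.IsQuotOn Xs ((Scheme.Modules.pullback i).obj I) Y' G' π') (hdec : IsIso (biprod.lift π π'))
    {IY : X.Modules} (hIY : IY = kernel (toPush i π))
    {G₁ G₁' : Xs.Modules} {π₁ : (Scheme.Modules.pullback i).obj IY ⟶ G₁}
    {π₁' : (Scheme.Modules.pullback i).obj IY ⟶ G₁'}
    (hG₁ : TFOne.IsQuotOn Xs ((Scheme.Modules.pullback i).obj IY) Y G₁ π₁)
    (hG₁' : TFOne.IsQuotOn Xs ((Scheme.Modules.pullback i).obj IY) Y' G₁' π₁')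
    (hdec₁ : IsIso (biprod.lift π₁ π₁')) :
    Coh.IsCoh IY ∧ FlatMod.IsFlatOver (X ↘ Spec (CommRingCat.of R)) IY ∧
      TFOne.IsTF1 Xs ((Scheme.Modules.pullback i).obj IY) ∧ Nonempty (StepData t π π₁) := by
  subst hIY
  have := isClosedImmersion_special _ i hsq
  obtain ⟨hN, hT, τ, hτ, α, β, w, hS, hα, hβ⟩ := exists_modification_maps hsq hIc hIf hM hG ht
  have hN' : IsLocallyNoetherian Xs := inferInstance
  have ht0 : t ≠ 0 := fun h => IsDiscreteValuationRing.not_a_field R (by simp [ht, h])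
  have : IsLocallyNoetherian X := LocallyOfFiniteType.isLocallyNoetherian (X ↘ Spec (CommRingCat.of R))
  have hPc : Coh.IsCoh ((Scheme.Modules.pushforward i).obj G) := QC70.isCoh_pushforward i G hG.2.1
  haveI := mono_smulMod_of_flat hIf ht0
  haveI : Mono (Formal.smulMod R (kernel (toPush i π)) t) :=
    haveI : Mono (Formal.smulMod R (kernel (toPush i π)) t ≫ kernel.ι (toPush i π)) := by
      rw [← Formal27.smulMod_comp]; infer_instance
    mono_of_mono _ (kernel.ι (toPush i π))
  refine ⟨QC70.isCoh_kernel _ hIc hPc.1, isFlatOver_of_mono_smulMod ht, hT, ?_⟩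
  haveI := hS.mono_f
  have hz₁ : α ≫ π₁' = 0 := eq_zero_of_zeroAt hG₁'.2.1.1 hG₁'.2.2.1 _ fun η hη e => by
    by_cases h : η ∈ Y
    · haveI := quot_subsingleton hG₁' (x := η) fun h' => (hY' η hη).1 h' h
      exact Subsingleton.elim _ _
    · haveI := quot_subsingleton hG (x := η) h
      rw [Subsingleton.elim e 0]; exact map0 _ _
  let l := biprod.lift π₁ π₁'
  let s : G₁ ⟶ (Scheme.Modules.pullback i).obj (kernel (toPush i π)) := biprod.inl ≫ inv l
  have hs : s ≫ π₁ = 𝟙 _ := by
    have h : inv l ≫ π₁ = biprod.fst := (IsIso.inv_comp_eq l).2 (biprod.lift_fst π₁ π₁').symm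
    simp only [s, Category.assoc]
    rw [h, biprod.inl_fst]
  have hκ : Mono (kernel.ι π ≫ π') := by
    refine Preadditive.mono_of_cancel_zero _ fun {P} g hg => ?_
    rw [← cancel_mono (kernel.ι π), zero_comp, ← cancel_mono (biprod.lift π π'), zero_comp]
    apply biprod.hom_ext
    · simp
    · simpa using hg
  have hsβ : s ≫ β = 0 := by
    rw [← cancel_mono (kernel.ι π ≫ π'), zero_comp]
    refine eq_zero_of_zeroAt hG'.2.1.1 hG'.2.2.1 _ fun η hη e => ?_
    by_cases h : η ∈ Y
    · haveI := quot_subsingleton hG' (x := η) fun h' => (hY' η hη).1 h' h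
      exact Subsingleton.elim _ _
    · haveI := quot_subsingleton hG₁ (x := η) h
      rw [Subsingleton.elim e 0]; exact map0 _ _
  let v : G₁ ⟶ G := hS.exact.lift s hsβ
  have hv : v ≫ α = s := hS.exact.lift_f s hsβ
  haveI : Mono (α ≫ π₁) := by
    refine Preadditive.mono_of_cancel_zero _ fun {P} g hg => ?_
    rw [← cancel_mono α, zero_comp, ← cancel_mono (biprod.lift π₁ π₁'), zero_comp]
    apply biprod.hom_ext
    · simpa using hg
    · simp [hz₁]
  haveI : Epi (α ≫ π₁) := epi_of_epi_fac (f := v) (g := α ≫ π₁) (h := 𝟙 G₁)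
    (by rw [← Category.assoc, hv, hs])
  haveI : IsIso (α ≫ π₁) := isIso_of_mono_of_epi _
  refine ⟨{
    j := kernel.ι _
    τ := τ
    a := asIso (α ≫ π₁)
    mono_j := inferInstance
    j_zero := kernel.condition _
    lift := fun w hw => ⟨kernel.lift _ w hw, kernel.lift_ι _ _ _⟩
    τ_j := hτ
    π_a := ?_ }⟩
  rw [asIso_hom, ← Category.assoc, hα]

end Groth.Agent.TF64
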