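import Groth.Agent.TF64.GeomConst
import Groth.Agent.TF64.Push
import Groth.Agent.LGlob19.Zero
import Groth.Agent.QC70.HomCoh
import Groth.Agent.Serre71.Finite
import Groth.Agent.RatFun90.Dense
import Groth.Agent.Crv77.RR

/-!
Endomorphisms of rank one sheaves act by constants at the generic points of geometrically integral components.
-/

set_option autoImplicit false
universe u

open CategoryTheory CategoryTheory.Limits AlgebraicGeometry TopologicalSpace
open Groth.Agent.QC70 (stalkMapM germM)
open Groth.Agent.Var76.BertiniScheme (const)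

namespace Groth.Agent.TF64

variable {k : Type u} [Field k] {X : Scheme.{u}} [X.Over (Spec (CommRingCat.of k))]

theorem const_res {V W : X.Opens} (h : W ≤ V) (c : k) :
    (X.presheaf.map (homOfLE h).op).hom (const X V c) = const X W c := by
  simp only [const, CommRingCat.hom_comp, RingHom.coe_comp, Function.comp_apply]
  exact congrArg (fun φ : _ ⟶ Γ(X, W) => φ.hom ((Scheme.ΓSpecIso (CommRingCat.of k)).inv.hom c))
    (Scheme.Hom.appLE_map (X ↘ Spec (CommRingCat.of k)) le_top (homOfLE h).op)

theorem app_const {Z : Scheme.{u}} [Z.Over (Spec (CommRingCat.of k))] (i : Z ⟶ X)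
    (hi : i ≫ (X ↘ Spec (CommRingCat.of k)) = Z ↘ Spec (CommRingCat.of k)) (W : X.Opens) (c : k) :
    i.app W (const X W c) = const Z (i ⁻¹ᵁ W) c := by
  have h : (Scheme.Hom.appLE (X ↘ Spec (CommRingCat.of k)) ⊤ W le_top) ≫ i.app W =
      Scheme.Hom.appLE (Z ↘ Spec (CommRingCat.of k)) ⊤ (i ⁻¹ᵁ W) le_top := by
    rw [Scheme.Hom.app_eq_appLE]
    refine (Scheme.Hom.appLE_comp_appLE i (X ↘ Spec (CommRingCat.of k)) ⊤ W (i ⁻¹ᵁ W) _ _).trans ?_
    congr 1
  simp only [const, CommRingCat.hom_comp, RingHom.coe_comp, Function.comp_apply]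
  rw [← h]
  rfl

/-- The constants in the local ring. -/
noncomputable def constStalk (η : X) : k →+* X.presheaf.stalk η :=
  (X.presheaf.germ ⊤ η trivial).hom.comp (const X ⊤)

theorem germ_const {W : X.Opens} {η : X} (hη : η ∈ W) (c : k) :
    X.presheaf.germ W η hη (const X W c) = constStalk η c := by
  rw [← const_res (le_top : W ≤ ⊤) c]
  exact X.presheaf.germ_res_apply (homOfLE le_top) η hη _

theorem stalkMapM_smulMod (M : X.Modules) (c : k) (η : X) (e : M.presheaf.stalk η) :
    stalkMapM (Formal.smulMod k M c) η e = constStalk η c • e := by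
  obtain ⟨W, hW, s, rfl⟩ := QC70.germM_exist e
  rw [QC70.stalkMapM_germ, Var76.BertiniScheme.smulMod_app, QC70.germM_smul, germ_const]

theorem module_finite_end [IsProper (X ↘ Spec (CommRingCat.of k))] {M : X.Modules} (hM : Coh.IsCoh M) :
    Module.Finite k (M ⟶ M) := by
  letI : HasExt.{u} X.Modules := hasExt_of_enoughInjectives.{u} _
  have := Crv77.isNoetherian_of_proper k X
  have := Serre71.finite_hh_of_isProper k _ (QC70.isCoh_homMod hM hM) 0
  exact Module.Finite.equiv (LGlob19.e₀ k M M).symm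

section Sigma

variable {M : X.Modules} {η : X} (e : M.presheaf.stalk η ≃ₗ[X.presheaf.stalk η] X.presheaf.stalk η)

theorem stalk_eq_mul (ψ : M ⟶ M) (x : M.presheaf.stalk η) :
    e (stalkMapM ψ η x) = e x * e (stalkMapM ψ η (e.symm 1)) := by
  have h : e (QC70.stalkLinear ψ η (e x • e.symm 1)) = e x * e (stalkMapM ψ η (e.symm 1)) := by
    rw [map_smul, map_smul]
    rfl
  rw [← h, ← map_smul, smul_eq_mul, mul_one, e.symm_apply_apply]
  rfl

/-- The eigenvalue at a generic point. -/
noncomputable def eigen : End M →+* X.presheaf.stalk η where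
  toFun ψ := e (stalkMapM ψ η (e.symm 1))
  map_one' := by
    change e (stalkMapM (𝟙 M) η (e.symm 1)) = 1
    rw [stalkMapM_id, e.apply_symm_apply]
  map_mul' ψ χ := by
    change e (stalkMapM (χ ≫ ψ) η (e.symm 1)) = _
    rw [stalkMapM_comp, stalk_eq_mul e ψ, mul_comm]
  map_zero' := by rw [stalkMapM_zero, map_zero]
  map_add' ψ χ := by
    change e (stalkMapM (ψ + χ) η (e.symm 1)) = _
    rw [stalkMapM_add, map_add]

theorem eigen_algebraMap (c : k) : eigen e (algebraMap k (End M) c) = constStalk η c := by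
  rw [Algebra.algebraMap_eq_smul_one]
  change e (stalkMapM (c • 𝟙 M) η (e.symm 1)) = _
  rw [KLin.smul_id, stalkMapM_smulMod, map_smul, e.apply_symm_apply, smul_eq_mul, mul_one]

end Sigma

/-- An element of the local ring at a generic point of a geometrically integral component which is integral
over the field is a constant. -/
theorem exists_constStalk [IsNoetherian X] [AlgebraicGeometry.IsReduced X]
    {η : X} (hη : η ∈ genericPoints X)
    (hgi : GeometricallyIntegral (VecSt.subschι X (closure {η}) isClosed_closure ≫ (X ↘ Spec (CommRingCat.of k))))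
    (f : X.presheaf.stalk η) (hf : (constStalk η (k := k)).IsIntegralElem f) :
    ∃ c : k, constStalk η c = f := by
  obtain ⟨p, hp, hpf⟩ := hf
  obtain ⟨W₀, hW₀, g₀, rfl⟩ := TopCat.Presheaf.exists_germ_eq X.presheaf f
  have hfin := NoetherianSpace.finite_irreducibleComponents (α := X)
  have hmem : η ∈ RatFun90.compOpen hfin (closure ({η} : Set X)) :=
    RatFun90.generic_mem_compOpen hfin hη isGenericPoint_closure
  obtain ⟨U, hU, hηU, hUle⟩ := exists_isAffineOpen_mem_and_subset (X := X) (x := η)
    (U := W₀ ⊓ RatFun90.compOpen hfin (closure ({η} : Set X))) ⟨hW₀, hmem⟩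
  replace hUle : U ≤ W₀ ⊓ RatFun90.compOpen hfin (closure ({η} : Set X)) := hUle
  let g := (X.presheaf.map (homOfLE (hUle.trans inf_le_left)).op).hom g₀
  have hgg : X.presheaf.germ U η hηU g = X.presheaf.germ W₀ η hW₀ g₀ :=
    X.presheaf.germ_res_apply (homOfLE (hUle.trans inf_le_left)) η hηU g₀
  have hUC : ∀ y ∈ U, y ∈ closure ({η} : Set X) := fun y hy =>
    RatFun90.compOpen_subset hfin _ (hUle hy).2
  -- the germ at `η` is injective on `U`
  have hinj : ∀ d : Γ(X, U), X.presheaf.germ U η hηU d = 0 → d = 0 := fun d hd => by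
    refine Mero90.eq_zero_of_maxPt d fun w hw hmax => ?_
    obtain rfl : η = w := hmax η (specializes_iff_mem_closure.2 (hUC w hw))
    exact hd
  have hg : (const X U (k := k)).IsIntegralElem g := ⟨p, hp, hinj _ (by
    rw [Polynomial.hom_eval₂]
    have hc : (X.presheaf.germ U η hηU).hom.comp (const X U) = constStalk η (k := k) :=
      RingHom.ext fun c => germ_const hηU c
    rw [hc]
    exact (congrArg (fun z => Polynomial.eval₂ (constStalk η) z p) hgg).trans hpf)⟩
  let ι := VecSt.subschι X (closure {η}) isClosed_closure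
  letI : (VecSt.subsch X (closure {η}) isClosed_closure).Over (Spec (CommRingCat.of k)) :=
    ⟨ι ≫ (X ↘ Spec (CommRingCat.of k))⟩
  haveI : GeometricallyIntegral
      (VecSt.subsch X (closure {η}) isClosed_closure ↘ Spec (CommRingCat.of k)) := hgi
  obtain ⟨ζ, hζ, hζη⟩ := exists_generic_preimage (Y := closure ({η} : Set X))
    (hY := isClosed_closure) hη (subset_closure rfl)
  have hA : IsAffineOpen (ι ⁻¹ᵁ U) := hU.preimage ι
  obtain ⟨c, hc⟩ := exists_const_of_isIntegral hA ⟨ζ, show ι ζ ∈ U by rw [hζη]; exact hηU⟩ (ι.app U g) (by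
    obtain ⟨q, hq, hqg⟩ := hg
    refine ⟨q, hq, ?_⟩
    have hc : (ι.app U).hom.comp (const X U) = const _ (ι ⁻¹ᵁ U) (k := k) :=
      RingHom.ext fun c => app_const ι rfl U c
    rw [← hc, ← Polynomial.hom_eval₂, hqg, map_zero])
  refine ⟨c, ?_⟩
  rw [← germ_const hηU, ← hgg]
  refine congrArg _ (sub_eq_zero.1 (hinj _ ?_))
  have hmove : ∀ (w : X) (hw : w ∈ U), w = η → ∀ d, X.presheaf.germ U w hw d = 0 →
      X.presheaf.germ U η hηU d = 0 := by
    rintro w hw rfl d h
    exact h
  refine hmove (ι ζ) (by rw [hζη]; exact hηU) hζη _ ?_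
  have hfld : IsField (X.presheaf.stalk (ι ζ)) := isField_stalk (by rw [hζη]; exact hη)
  letI := hfld.toField
  refine (ι.stalkMap ζ).hom.injective ?_
  rw [map_zero, Scheme.Hom.germ_stalkMap_apply, map_sub, app_const ι rfl U c, hc, sub_self, map_zero]

/-- Endomorphisms act as constants at the generic points. -/
theorem exists_scalar [IsProper (X ↘ Spec (CommRingCat.of k))] [AlgebraicGeometry.IsReduced X]
    {M : X.Modules} (hMc : Coh.IsCoh M) (hM : TFOne.IsRkOne X M) (φ : M ⟶ M)
    {η : X} (hη : η ∈ genericPoints X)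
    (hgi : GeometricallyIntegral (VecSt.subschι X (closure {η}) isClosed_closure ≫ (X ↘ Spec (CommRingCat.of k)))) :
    ∃ c : k, ZeroAt (φ - Formal.smulMod k M c) η := by
  have := Crv77.isNoetherian_of_proper k X
  obtain ⟨e⟩ := hM η hη
  have : Module.Finite k (End M) := module_finite_end (k := k) hMc
  obtain ⟨p, hp, hpφ⟩ := Algebra.IsIntegral.isIntegral (R := k) (A := End M) φ
  obtain ⟨c, hc⟩ := exists_constStalk hη hgi (eigen e φ) ⟨p, hp, by
    have h : (eigen e).comp (algebraMap k (End M)) = constStalk η :=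
      RingHom.ext (eigen_algebraMap e)
    rw [← h, ← Polynomial.hom_eval₂, hpφ, map_zero]⟩
  refine ⟨c, fun x => e.injective ?_⟩
  rw [stalkMapM_sub, map_sub, map_zero, stalkMapM_smulMod, map_smul, hc, stalk_eq_mul e φ]
  change e x * eigen e φ - eigen e φ * e x = 0
  rw [mul_comm, sub_self]

end Groth.Agent.TF64
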