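import Groth.Agent.TF64.Step
import Mathlib.CategoryTheory.Abelian.Refinements

/-!
The system of quotients of a tower of modifications is a coherent formal module on which the uniformizer is
a nonzerodivisor.
-/

set_option autoImplicit false
universe u

open CategoryTheory CategoryTheory.Limits AlgebraicGeometry TopologicalSpace Opposite

namespace Groth.Agent.TF64

variable {R : Type u} [CommRing R] [IsDomain R] [IsDiscreteValuationRing R] {X : Scheme.{u}}
  [X.Over (Spec (CommRingCat.of R))] {Xs : Scheme.{u}} {i : Xs ⟶ X}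

/-- A tower of modifications. -/
structure Tower (i : Xs ⟶ X) (t : R) where
  In : ℕ → X.Modules
  G : ℕ → Xs.Modules
  π : ∀ n, (Scheme.Modules.pullback i).obj (In n) ⟶ G n
  D : ∀ n, StepData t (π n) (π (n + 1))
  coh : ∀ n, Coh.IsCoh (In n)
  epi_π : ∀ n, Epi (π n)
  epi_u : ∀ n, Epi (toPush i (π n))

namespace Tower

variable {t : R} (T : Tower i t)

noncomputable section

/-- The inclusion in the initial module. -/
def jj : ∀ n, T.In n ⟶ T.In 0
  | 0 => 𝟙 _
  | n + 1 => (T.D n).j ≫ jj n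

theorem jj_zero : T.jj 0 = 𝟙 _ := rfl

theorem jj_succ (n : ℕ) : T.jj (n + 1) = (T.D n).j ≫ T.jj n := rfl

instance mono_j (n : ℕ) : Mono (T.D n).j := (T.D n).mono_j

instance mono_jj : ∀ n, Mono (T.jj n)
  | 0 => inferInstanceAs (Mono (𝟙 _))
  | n + 1 => haveI := mono_jj n; inferInstanceAs (Mono ((T.D n).j ≫ T.jj n))

/-- The map from the initial module. -/
def e : ∀ n, T.In 0 ⟶ T.In n
  | 0 => 𝟙 _
  | n + 1 => e n ≫ (T.D n).τ

theorem e_jj : ∀ n, T.e n ≫ T.jj n = Formal.smulMod R (T.In 0) (t ^ n)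
  | 0 => by rw [pow_zero, Formal27.smulMod_one]; exact Category.id_comp _
  | n + 1 => by
    show (T.e n ≫ (T.D n).τ) ≫ (T.D n).j ≫ T.jj n = _
    rw [Category.assoc, reassoc_of% (T.D n).τ_j, ← Formal27.smulMod_comp, ← Category.assoc,
      e_jj n, pow_succ', Formal27.smulMod_mul]

theorem j_τ (n : ℕ) : (T.D n).j ≫ (T.D n).τ = Formal.smulMod R (T.In (n + 1)) t := by
  rw [← cancel_mono (T.D n).j, Category.assoc, (T.D n).τ_j, Formal27.smulMod_comp]

/-- The quotients. -/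
def Q (n : ℕ) : X.Modules := cokernel (T.jj (n + 1))

/-- The quotient maps. -/
def q (n : ℕ) : T.In 0 ⟶ T.Q n := cokernel.π (T.jj (n + 1))

instance epi_q (n : ℕ) : Epi (T.q n) := inferInstanceAs (Epi (cokernel.π _))

theorem jj_q (n : ℕ) : T.jj (n + 1) ≫ T.q n = 0 := cokernel.condition _

theorem isCoh_Q (n : ℕ) : Coh.IsCoh (T.Q n) := QC70.isCoh_cokernel _ (T.coh (n + 1)).1 (T.coh 0)

theorem smul_q (n : ℕ) {a : R} (ha : a ∈ Ideal.span {t} ^ (n + 1)) :
    Formal.smulMod R (T.In 0) a ≫ T.q n = 0 := by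
  rw [Ideal.span_singleton_pow] at ha
  obtain ⟨c, rfl⟩ := Ideal.mem_span_singleton'.1 ha
  rw [mul_comm, Formal27.smulMod_mul, ← T.e_jj (n + 1), Category.assoc, Category.assoc, T.jj_q,
    comp_zero, comp_zero]

theorem killed (n : ℕ) : Formal.KilledBy (Ideal.span {t} ^ (n + 1)) (T.Q n) := fun a ha => by
  rw [← cancel_epi (T.q n), Formal27.smulMod_comp, T.smul_q n ha, comp_zero]

/-- The transition maps. -/
def trans (n : ℕ) : T.Q (n + 1) ⟶ T.Q n :=
  cokernel.desc _ (T.q n) (by rw [jj_succ, Category.assoc, T.jj_q, comp_zero])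

theorem q_trans (n : ℕ) : T.q (n + 1) ≫ T.trans n = T.q n := cokernel.π_desc _ _ _

/-- The system. -/
def sys : ℕᵒᵖ ⥤ X.Modules := Functor.ofOpSequence T.trans

theorem sys_map (n : ℕ) : T.sys.map (homOfLE (Nat.le_succ n)).op = T.trans n :=
  Functor.ofOpSequence_map_homOfLE_succ _ n

theorem exact_u (n : ℕ) : (ShortComplex.mk _ _ (T.D n).j_zero).Exact :=
  ShortComplex.exact_of_f_is_kernel _ (KernelFork.IsLimit.ofι' (T.D n).j (T.D n).j_zero fun {W} w hw =>
    ⟨((T.D n).lift w hw).choose, ((T.D n).lift w hw).choose_spec⟩)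

theorem τ_toPush (n : ℕ) :
    (T.D n).τ ≫ toPush i (T.π (n + 1)) = toPush i (T.π n) ≫ (Scheme.Modules.pushforward i).map (T.D n).a.hom := by
  rw [toPush_naturality, ← (T.D n).π_a, toPush_comp]

theorem epi_e_toPush : ∀ n, Epi (T.e n ≫ toPush i (T.π n))
  | 0 => by
    haveI := T.epi_u 0
    exact inferInstanceAs (Epi (𝟙 _ ≫ toPush i (T.π 0)))
  | n + 1 => by
    haveI := epi_e_toPush n
    show Epi ((T.e n ≫ (T.D n).τ) ≫ toPush i (T.π (n + 1)))
    rw [Category.assoc, T.τ_toPush, ← Category.assoc]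
    infer_instance

theorem isCohFormal : Formal.IsCohFormal (Ideal.span {t}) T.sys := by
  refine ⟨T.isCoh_Q, T.killed, fun n => ?_⟩
  rw [T.sys_map]
  have h : Formal.smulFamily (Ideal.span {t} ^ (n + 1)) (T.Q (n + 1)) ≫ T.trans n = 0 :=
    Formal27.smulFamily_comp_eq_zero _ fun a ha => by
      rw [← Formal27.smulMod_comp, T.killed n a ha, comp_zero]
  refine ⟨h, ?_⟩
  haveI : Epi (T.trans n) := epi_of_epi_fac (T.q_trans n)
  let cπ := Formal.modPowπ (Ideal.span {t}) (n + 1) (T.Q (n + 1))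
  let φ := T.jj (n + 1) ≫ T.q (n + 1) ≫ cπ
  have hjφ : (T.D (n + 1)).j ≫ φ = 0 := by
    rw [← Category.assoc, ← jj_succ, reassoc_of% T.jj_q (n + 1), zero_comp]
  haveI := T.epi_u (n + 1)
  let φ' := (T.exact_u (n + 1)).desc φ hjφ
  have hφ' : toPush i (T.π (n + 1)) ≫ φ' = φ := (T.exact_u (n + 1)).g_desc φ hjφ
  have hφ : φ = 0 := by
    have hz : T.e (n + 1) ≫ φ = 0 := by
      simp only [φ]
      rw [reassoc_of% T.e_jj (n + 1), ← Category.assoc, ← Formal27.smulMod_comp, Category.assoc]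
      exact (congrArg (T.q (n + 1) ≫ ·) (Formal27.smulMod_modPowπ _ _ _
        (Ideal.pow_mem_pow (Ideal.mem_span_singleton_self t) (n + 1)))).trans comp_zero
    haveI := T.epi_e_toPush (n + 1)
    have : φ' = 0 := by
      rw [← cancel_epi (T.e (n + 1) ≫ toPush i (T.π (n + 1))), comp_zero, Category.assoc, hφ', hz]
    rw [← hφ', this, comp_zero]
  let v : T.Q n ⟶ cokernel (Formal.smulFamily (Ideal.span {t} ^ (n + 1)) (T.Q (n + 1))) :=
    cokernel.desc _ (T.q (n + 1) ≫ cπ) hφ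
  refine Formal27.isIso_desc_of_factor _ _ h v ?_
  rw [← cancel_epi (T.q (n + 1)), ← Category.assoc, T.q_trans]
  exact cokernel.π_desc _ _ _

theorem square : ∀ (k : ℕ) {W : X.Modules} (w : W ⟶ T.In 0) (v : W ⟶ T.In (k + 1)),
    w ≫ Formal.smulMod R (T.In 0) t = v ≫ T.jj (k + 1) →
      ∃ w' : W ⟶ T.In k, w' ≫ T.jj k = w ∧ w' ≫ (T.D k).τ = v
  | 0, W, w, v, h => ⟨w, Category.comp_id w, by
      rw [← cancel_mono (T.D 0).j, Category.assoc, (T.D 0).τ_j, h]
      exact congrArg (v ≫ ·) (Category.comp_id _)⟩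
  | k + 1, W, w, v, h => by
    obtain ⟨w₁, hw₁, hτ⟩ := square k w (v ≫ (T.D (k + 1)).j) (by rw [h, Category.assoc]; rfl)
    have h0 : w₁ ≫ toPush i (T.π k) = 0 := by
      rw [← cancel_mono ((Scheme.Modules.pushforward i).map (T.D k).a.hom), zero_comp, Category.assoc,
        ← T.τ_toPush, ← Category.assoc, hτ, Category.assoc, (T.D (k + 1)).j_zero, comp_zero]
    obtain ⟨w', hw'⟩ := (T.D k).lift w₁ h0
    refine ⟨w', by rw [jj_succ, ← Category.assoc, hw', hw₁], ?_⟩
    rw [← cancel_mono (T.D (k + 1)).j, ← hτ, ← hw', Category.assoc, Category.assoc, (T.D (k + 1)).τ_j, j_τ]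

theorem eq_zero_of_smul (n : ℕ) {W : X.Modules} (g : W ⟶ T.Q (n + 1))
    (hg : g ≫ Formal.smulMod R (T.Q (n + 1)) t = 0) : g ≫ T.trans n = 0 := by
  obtain ⟨A, π, hπ, w, hw⟩ := surjective_up_to_refinements_of_epi (T.q (n + 1)) g
  have h1 : (w ≫ Formal.smulMod R (T.In 0) t) ≫ T.q (n + 1) = 0 := by
    rw [Category.assoc, ← Formal27.smulMod_comp, ← Category.assoc, ← hw, Category.assoc, hg, comp_zero]
  have hex : (ShortComplex.mk _ _ (T.jj_q (n + 1))).Exact :=
    ShortComplex.exact_of_g_is_cokernel _ (cokernelIsCokernel _)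
  haveI : Mono (ShortComplex.mk _ _ (T.jj_q (n + 1))).f := T.mono_jj (n + 1 + 1)
  obtain ⟨w', hw', -⟩ := T.square (n + 1) w (hex.lift _ h1) (hex.lift_f _ h1).symm
  rw [← cancel_epi π, comp_zero, ← Category.assoc, hw, Category.assoc, T.q_trans, ← hw', Category.assoc,
    T.jj_q, comp_zero]

end

end Tower

end Groth.Agent.TF64
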