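import Groth.Agent.Formal27.Pullback
import Groth.Agent.Dev46.Scheme
import Mathlib.RingTheory.DiscreteValuationRing.Basic

/-!
The special fibre of a scheme over a discrete valuation ring: `M → M → i_* i^* M → 0` with first map the
uniformizer is exact.
-/

set_option autoImplicit false
universe u

open CategoryTheory CategoryTheory.Limits AlgebraicGeometry TopologicalSpace

namespace Groth.Agent.TF64

variable {R : Type u} [CommRing R] [IsDomain R] [IsDiscreteValuationRing R] {X : Scheme.{u}}
  (f : X ⟶ Spec (CommRingCat.of R)) {Xs : Scheme.{u}} (i : Xs ⟶ X)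
  {qs : Xs ⟶ Spec (CommRingCat.of (IsLocalRing.ResidueField R))}
  (hsq : IsPullback i qs f (Spec.map (CommRingCat.ofHom (IsLocalRing.residue R))))
  {t : R} (ht : IsLocalRing.maximalIdeal R = Ideal.span {t})

include hsq in
theorem isClosedImmersion_special : IsClosedImmersion i :=
  MorphismProperty.of_isPullback hsq.flip (IsClosedImmersion.spec_of_surjective _
    IsLocalRing.residue_surjective)

/-- The scalars as functions on an open. -/
noncomputable def scal (U : X.Opens) : R →+* Γ(X, U) :=
  ((Scheme.ΓSpecIso (CommRingCat.of R)).inv ≫ Scheme.Hom.appLE f ⊤ U le_top).hom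

theorem SpecMap_scal {U : X.Opens} (hU : IsAffineOpen U) :
    Spec.map (CommRingCat.ofHom (scal f U)) = hU.fromSpec ≫ f := by
  change Spec.map ((Scheme.ΓSpecIso (CommRingCat.of R)).inv ≫ Scheme.Hom.appLE f ⊤ U le_top) = _
  rw [Spec.map_comp, ← IsAffineOpen.SpecMap_appLE_fromSpec f (isAffineOpen_top _) hU le_top,
    IsAffineOpen.fromSpec_top, Scheme.isoSpec_Spec_inv]

include hsq ht in
/-- The ideal of the special fibre is generated by the uniformizer. -/
theorem ker_ideal_le (U : X.affineOpens) : i.ker.ideal U ≤ Ideal.span {scal f U.1 t} := by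
  intro a ha
  let A := Γ(X, U.1)
  let I : Ideal A := Ideal.span {scal f U.1 t}
  let mk : A ⟶ CommRingCat.of (A ⧸ I) := CommRingCat.ofHom (Ideal.Quotient.mk I)
  let g : Spec (CommRingCat.of (A ⧸ I)) ⟶ X := Spec.map mk ≫ U.2.fromSpec
  have hκ : ∀ r ∈ IsLocalRing.maximalIdeal R, Ideal.Quotient.mk I (scal f U.1 r) = 0 := fun r hr => by
    rw [ht] at hr
    obtain ⟨c, rfl⟩ := Ideal.mem_span_singleton'.1 hr
    rw [Ideal.Quotient.eq_zero_iff_mem, map_mul]
    exact Ideal.mul_mem_left _ _ (Ideal.mem_span_singleton_self _)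
  let ψ : IsLocalRing.ResidueField R →+* A ⧸ I :=
    Ideal.Quotient.lift _ ((Ideal.Quotient.mk I).comp (scal f U.1)) hκ
  have hg : g ≫ f = Spec.map (CommRingCat.ofHom ψ) ≫ Spec.map (CommRingCat.ofHom (IsLocalRing.residue R)) := by
    simp only [g, Category.assoc, ← SpecMap_scal f U.2, mk, ← Spec.map_comp]
    congr 1
  let h := hsq.lift g (Spec.map (CommRingCat.ofHom ψ)) hg
  have hh : h ≫ i = g := hsq.lift_fst _ _ _
  have := isClosedImmersion_special f i hsq
  rw [Scheme.Hom.ker_apply, RingHom.mem_ker] at ha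
  have e : (⊤ : (Spec (CommRingCat.of (A ⧸ I))).Opens) ≤ g ⁻¹ᵁ U.1 := fun z _ => by
    change U.2.fromSpec (Spec.map mk z) ∈ U.1
    rw [← SetLike.mem_coe, ← U.2.range_fromSpec]
    exact ⟨_, rfl⟩
  have e' : (⊤ : (Spec (CommRingCat.of (A ⧸ I))).Opens) ≤ h ⁻¹ᵁ (i ⁻¹ᵁ U.1) := fun z hz => by
    have := e hz
    rw [← hh] at this
    exact this
  have h0 : Scheme.Hom.appLE g U.1 ⊤ e a = 0 := by
    have : Scheme.Hom.appLE g U.1 ⊤ e = i.app U.1 ≫ Scheme.Hom.appLE h (i ⁻¹ᵁ U.1) ⊤ e' := by
      rw [Scheme.Hom.app_eq_appLE, Scheme.Hom.appLE_comp_appLE]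
      simp only [hh]
    rw [this, CommRingCat.comp_apply, ha, map_zero]
  have hmk : Scheme.Hom.appLE g U.1 ⊤ e ≫ (Scheme.ΓSpecIso (CommRingCat.of (A ⧸ I))).hom = mk := by
    refine Spec.map_injective ?_
    haveI := U.2.isOpenImmersion_fromSpec
    rw [← cancel_mono U.2.fromSpec, Spec.map_comp, Category.assoc,
      IsAffineOpen.SpecMap_appLE_fromSpec g U.2 (isAffineOpen_top _) e, IsAffineOpen.fromSpec_top,
      Scheme.isoSpec_Spec_inv, ← Category.assoc, ← Spec.map_comp, Iso.inv_hom_id, Spec.map_id, Category.id_comp]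
  have h1 : mk a = 0 := by rw [← hmk, CommRingCat.comp_apply, h0, map_zero]
  exact Ideal.Quotient.eq_zero_iff_mem.1 h1

variable [IsLocallyNoetherian X] [X.Over (Spec (CommRingCat.of R))]
  (hf : X ↘ Spec (CommRingCat.of R) = f)

include hsq ht hf in
/-- `M → M → i_* i^* M → 0` is exact. -/
theorem exact_unit {M : X.Modules} (hM : Coh.IsCoh M) :
    ∃ w : Formal.smulMod R M t ≫ (Scheme.Modules.pullbackPushforwardAdjunction i).unit.app M = 0,
      (ShortComplex.mk _ _ w).Exact ∧
        Epi ((Scheme.Modules.pullbackPushforwardAdjunction i).unit.app M) := by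
  subst hf
  have := isClosedImmersion_special _ i hsq
  let adj := Scheme.Modules.pullbackPushforwardAdjunction i
  let T := Formal.smulMod R M t
  let π := cokernel.π T
  have hQ : Coh.IsCoh (cokernel T) := QC70.isCoh_cokernel T hM.1 hM
  have hkill : Formal.smulMod R (cokernel T) t = 0 := by
    rw [← cancel_epi π, Formal27.smulMod_comp, comp_zero]
    exact cokernel.condition T
  have hk : Dev46.killed i (cokernel T) := ⟨hQ, fun U a ha s => by
    obtain ⟨c, rfl⟩ := Ideal.mem_span_singleton'.1 (ker_ideal_le _ i hsq ht U ha)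
    rw [mul_smul]
    refine (congrArg (c • ·) ?_).trans (smul_zero c)
    exact (congrArg (fun φ : cokernel T ⟶ cokernel T => φ.app U.1 s) hkill :)⟩
  have := Dev46.isIso_unit i hk
  letI : Xs.Over (Spec (CommRingCat.of R)) := ⟨i ≫ (X ↘ Spec (CommRingCat.of R))⟩
  have h0 : (Scheme.Modules.pullback i).map T = 0 := by
    rw [Formal27.pullback_map_smulMod i rfl]
    refine (SheafOfModules.toSheaf _).map_injective ?_
    change Coh.smulAb _ (Coh.toGlobal (Xs ↘ Spec (CommRingCat.of R)) t) = _
    have hz : Coh.toGlobal (Xs ↘ Spec (CommRingCat.of R)) t = 0 := by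
      change Coh.toGlobal (i ≫ (X ↘ Spec (CommRingCat.of R))) t = 0
      rw [hsq.w]
      simp only [Coh.toGlobal, Scheme.Hom.comp_appTop, CommRingCat.hom_comp, RingHom.coe_comp, Function.comp_apply]
      have hn : (Scheme.ΓSpecIso (CommRingCat.of (IsLocalRing.ResidueField R))).inv (IsLocalRing.residue R t) =
          (Spec.map (CommRingCat.ofHom (IsLocalRing.residue R))).appTop ((Scheme.ΓSpecIso (CommRingCat.of R)).inv t) :=
        (congr($(Scheme.ΓSpecIso_inv_naturality (CommRingCat.ofHom (IsLocalRing.residue R))) t) :)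
      change qs.appTop ((Spec.map (CommRingCat.ofHom (IsLocalRing.residue R))).appTop ((Scheme.ΓSpecIso _).inv t)) = 0
      rw [← hn]
      have : IsLocalRing.residue R t = 0 := by
        rw [IsLocalRing.residue_eq_zero_iff, ht]
        exact Ideal.mem_span_singleton_self t
      simp [this]
    rw [hz, Coh.smulAb_zero]
    rfl
  have wT : T ≫ adj.unit.app M = 0 := by
    refine (adj.unit.naturality T).trans ?_
    simp [h0]
  have : IsIso ((Scheme.Modules.pullback i).map π) := by
    let d := cokernel.desc T (adj.unit.app M) wT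
    have hs : (Scheme.Modules.pullback i).map π ≫ (adj.homEquiv _ _).symm d = 𝟙 _ := by
      rw [← adj.homEquiv_naturality_left_symm, cokernel.π_desc]
      exact (adj.homEquiv _ _).symm_apply_eq.2 (by simp [Adjunction.homEquiv_unit])
    haveI : Epi ((Scheme.Modules.pullback i).map π) :=
      haveI := adj.leftAdjoint_preservesColimits
      inferInstance
    haveI : IsSplitMono ((Scheme.Modules.pullback i).map π) := IsSplitMono.mk' ⟨_, hs⟩
    exact isIso_of_epi_of_isSplitMono _
  have key : π ≫ adj.unit.app (cokernel T) ≫ inv ((Scheme.Modules.pushforward i).map ((Scheme.Modules.pullback i).map π)) =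
      adj.unit.app M := by
    rw [← Category.assoc, IsIso.comp_inv_eq]
    exact adj.unit.naturality π
  have w : T ≫ adj.unit.app M = 0 := by rw [← key, cokernel.condition_assoc, zero_comp]
  refine ⟨w, ?_, ?_⟩
  · refine ShortComplex.exact_of_g_is_cokernel _ (IsColimit.ofIsoColimit (cokernelIsCokernel T)
      (Cofork.ext (asIso (adj.unit.app (cokernel T)) ≪≫
        (asIso ((Scheme.Modules.pushforward i).map ((Scheme.Modules.pullback i).map π))).symm) key))
  · rw [← key]
    infer_instance

end Groth.Agent.TF64
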